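import Mathlib
import Cfsg.Agent.Lib.Transfer.CycIndexP
import Cfsg.Prelude.Def_OddOrderLocal
import Cfsg.Prelude.Def_PLocal

/-!
# `Ω₁` of metacyclic `p`-groups
-/

set_option autoImplicit false

namespace Cfsg.Agent.Lib.Transfer

open Subgroup
open scoped commutatorElement

variable {R : Type*} [Group R] [Finite R] {p : ℕ} [hp : Fact p.Prime]

/-- In a finite cyclic group, an element of order `p` generates all solutions of `u ^ p = 1`. -/
theorem mem_zpowers_of_pow_eq_one_of_cyclic {Q : Type*} [Group Q] [Finite Q] [IsCyclic Q] {y u : Q}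
    (hy : orderOf y = p) (hu : u ^ p = 1) : u ∈ zpowers y := by
  classical
  haveI := Fintype.ofFinite Q
  have hpp := hp.out
  have h1 := IsCyclic.card_pow_eq_one_le (α := Q) (n := p) hpp.pos
  have h2 : ((zpowers y : Set Q).toFinset) ⊆ {a : Q | a ^ p = 1}.toFinset := by
    intro a ha
    simp only [Set.mem_toFinset, SetLike.mem_coe, Set.mem_ofPred_eq] at ha ⊢
    obtain ⟨k, rfl⟩ := ha
    show (y ^ k) ^ p = 1
    rw [← zpow_natCast, ← zpow_mul, mul_comm, zpow_mul, zpow_natCast, ← hy, pow_orderOf_eq_one, one_zpow]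
  have h3 : ((zpowers y : Set Q).toFinset).card = p := by
    rw [Set.toFinset_card, ← Nat.card_eq_fintype_card, ← hy]
    exact Nat.card_zpowers y
  have h4 : {a : Q | a ^ p = 1}.toFinset = (zpowers y : Set Q).toFinset := by
    symm
    apply Finset.eq_of_subset_of_card_le h2
    rw [h3]
    have h5 : ({a : Q | a ^ p = 1}.toFinset) = Finset.univ.filter (fun a : Q => a ^ p = 1) := by
      ext a; simp
    rw [h5]
    exact h1
  have h6 : u ∈ {a : Q | a ^ p = 1}.toFinset := by simp [hu]
  rw [h4] at h6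
  simpa using h6

theorem omega_of_metacyclic (hodd : p ≠ 2) (hR : IsPGroup p R) (hm : Cfsg.IsMetacyclic R) (hnc : ¬ IsCyclic R) :
    Cfsg.IsElementaryAbelian p (Cfsg.omegaOne p (⊤ : Subgroup R)) ∧
      Nat.card ↥(Cfsg.omegaOne p (⊤ : Subgroup R)) = p ^ 2 := by
  classical
  have hpp := hp.out
  let F : Set (Subgroup R) := {N | ∃ _ : N.Normal, IsCyclic N ∧ IsCyclic (R ⧸ N)}
  obtain ⟨N₀, hN₀, hc₀, hq₀⟩ := hm
  obtain ⟨N, hNm⟩ := Set.Finite.exists_maximal (Set.toFinite F) ⟨N₀, hN₀, hc₀, hq₀⟩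
  obtain ⟨hNn, hNc, hNq⟩ := hNm.prop
  haveI := hNn
  haveI := hNq
  have hNtop : N ≠ ⊤ := by
    intro h
    rw [h] at hNc
    exact hnc (isCyclic_of_surjective (Subgroup.topEquiv (G := R)) (MulEquiv.surjective _))
  -- an element of order `p` in the quotient
  have hQnt : Nontrivial (R ⧸ N) := QuotientGroup.nontrivial_iff.2 hNtop
  have hQp : IsPGroup p (R ⧸ N) := hR.to_quotient N
  obtain ⟨y, hy⟩ : ∃ y : R ⧸ N, orderOf y = p := by
    obtain ⟨k, hk⟩ := IsPGroup.iff_card.1 hQp
    have hk0 : k ≠ 0 := by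
      rintro rfl
      rw [pow_zero] at hk
      exact (Finite.one_lt_card (α := R ⧸ N)).ne' hk
    exact exists_prime_orderOf_dvd_card' p (by rw [hk]; exact dvd_pow_self p hk0)
  let f : R →* R ⧸ N := QuotientGroup.mk' N
  have hfs : Function.Surjective f := QuotientGroup.mk'_surjective N
  haveI hzn : (zpowers y).Normal := by
    haveI : IsMulCommutative (R ⧸ N) := IsCyclic.isMulCommutative
    infer_instance
  let N₁ : Subgroup R := (zpowers y).comap f
  haveI hN₁n : N₁.Normal := hzn.comap f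
  have hNN₁ : N ≤ N₁ := by
    intro m hm
    show f m ∈ zpowers y
    have : f m = 1 := (QuotientGroup.eq_one_iff m).2 hm
    rw [this]
    exact Subgroup.one_mem _
  have hN₁q : IsCyclic (R ⧸ N₁) :=
    isCyclic_of_surjective (QuotientGroup.map N N₁ (MonoidHom.id R) hNN₁) (by
      intro q
      induction q using QuotientGroup.induction_on with
      | H r => exact ⟨(r : R ⧸ N), rfl⟩)
  have hne : N ≠ N₁ := by
    intro h
    obtain ⟨r, hr⟩ := hfs y
    have h1 : r ∈ N₁ := by
      show f r ∈ zpowers y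
      rw [hr]
      exact mem_zpowers y
    rw [← h] at h1
    have h2 : f r = 1 := (QuotientGroup.eq_one_iff r).2 h1
    rw [hr] at h2
    rw [h2, orderOf_one] at hy
    exact hpp.one_lt.ne hy
  have hN₁c : ¬ IsCyclic N₁ := by
    intro h
    have := hNm.le_of_ge (⟨hN₁n, h, hN₁q⟩ : N₁ ∈ F) hNN₁
    exact hne (le_antisymm hNN₁ this)
  -- the index
  have hi : (N.subgroupOf N₁).index = p := by
    have h1 := Subgroup.card_mul_index (N.subgroupOf N₁)
    have h2 : Nat.card (N.subgroupOf N₁) = Nat.card N :=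
      Nat.card_congr (Subgroup.subgroupOfEquivOfLe hNN₁).toEquiv
    have h3 := Subgroup.card_mul_index N₁
    rw [show N₁.index = (zpowers y).index from Subgroup.index_comap_of_surjective _ hfs] at h3
    have h4 := Subgroup.card_mul_index (zpowers y)
    rw [Nat.card_zpowers, hy] at h4
    have h5 := Subgroup.card_mul_index N
    have h6 : N.index = Nat.card (R ⧸ N) := rfl
    rw [h6, ← h4, ← h3] at h5
    have hpos : 0 < (zpowers y).index := Nat.pos_of_ne_zero Subgroup.index_ne_zero_of_finite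
    have h7 : Nat.card N₁ = Nat.card N * p := by
      apply Nat.eq_of_mul_eq_mul_right hpos
      rw [← h5]; ring
    rw [h2, h7] at h1
    exact Nat.eq_of_mul_eq_mul_left Nat.card_pos h1
  have hcy : IsCyclic (N.subgroupOf N₁) :=
    isCyclic_of_surjective (Subgroup.subgroupOfEquivOfLe hNN₁).symm (MulEquiv.surjective _)
  obtain ⟨h1, h2⟩ := omega_of_cyc_index hodd (hR.to_subgroup N₁) hN₁c (N.subgroupOf N₁) hcy hi
  let K := closure {x : N₁ | x ^ p = 1}
  have e : Cfsg.omegaOne p (⊤ : Subgroup R) = K.map N₁.subtype := by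
    show Subgroup.closure _ = (Subgroup.closure {x : N₁ | x ^ p = 1}).map N₁.subtype
    rw [MonoidHom.map_closure]
    congr 1
    ext u
    constructor
    · rintro ⟨-, hu⟩
      have hu1 : u ∈ N₁ := by
        show f u ∈ zpowers y
        apply mem_zpowers_of_pow_eq_one_of_cyclic hy
        rw [← map_pow, hu, map_one]
      exact ⟨⟨u, hu1⟩, Subtype.ext hu, rfl⟩
    · rintro ⟨v, hv, rfl⟩
      refine ⟨trivial, ?_⟩
      have : v ^ p = 1 := hv
      exact congrArg Subtype.val this
  have hKc : Nat.card (K.map N₁.subtype) = p ^ 2 := by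
    rw [← h2]
    exact Nat.card_congr (Subgroup.equivMapOfInjective K N₁.subtype N₁.subtype_injective).symm.toEquiv
  rw [e]
  refine ⟨⟨IsPGroup.isMulCommutative_of_card_eq_prime_sq hKc, ?_⟩, hKc⟩
  rintro _ ⟨u, hu, rfl⟩
  have := h1.2 u hu
  exact congrArg Subtype.val this

end Cfsg.Agent.Lib.Transfer
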