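import Mathlib
import Cfsg.Agent.Lib.PGroup.Basic

/-!
# Non-abelian `2`-groups with a cyclic maximal subgroup
-/

set_option autoImplicit false

namespace Cfsg.Agent.Lib.Transfer

open Subgroup
open scoped commutatorElement

theorem isCoprime_two_pow_of_odd (k : ℕ) (y : ℤ) : IsCoprime ((2 : ℤ) ^ k) (2 * y + 1) := by
  apply IsCoprime.pow_left
  exact ⟨-y, 1, by ring⟩

/-- Square roots of one modulo `2 ^ m`. -/
theorem int_sq_cases (m : ℕ) (hm : 2 ≤ m) (r : ℤ) (h : (2 : ℤ) ^ m ∣ r ^ 2 - 1) :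
    ∃ w : ℤ, r = 1 + 2 ^ m * w ∨ r = -1 + 2 ^ m * w ∨ r = 1 + 2 ^ (m - 1) + 2 ^ m * w ∨
      r = -1 + 2 ^ (m - 1) + 2 ^ m * w := by
  obtain ⟨l, rfl⟩ : ∃ l, m = l + 2 := ⟨m - 2, by omega⟩
  have hm1 : l + 2 - 1 = l + 1 := by omega
  rw [hm1]
  have h2 : (2 : ℤ) ∣ r ^ 2 - 1 := by
    refine dvd_trans ?_ h
    exact dvd_pow_self 2 (by omega)
  -- `r` is odd
  obtain ⟨u, hu⟩ : ∃ u, r = 2 * u + 1 := by
    rcases Int.even_or_odd r with he | ho
    · exfalso
      obtain ⟨c, hc⟩ := he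
      obtain ⟨d, hd⟩ := h2
      have : (2 : ℤ) * (2 * c ^ 2 - d) = 1 := by
        rw [hc] at hd
        linear_combination hd
      omega
    · obtain ⟨c, hc⟩ := ho
      exact ⟨c, hc⟩
  subst hu
  have h3 : (2 : ℤ) ^ l ∣ u * (u + 1) := by
    obtain ⟨d, hd⟩ := h
    refine ⟨d, ?_⟩
    have : (4 : ℤ) * (u * (u + 1)) = 4 * (2 ^ l * d) := by
      have e : (2 * u + 1) ^ 2 - 1 = 4 * (u * (u + 1)) := by ring
      rw [← e, hd]
      ring
    exact mul_left_cancel₀ (by norm_num) this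
  -- one of `u`, `u + 1` is divisible by `2 ^ l`
  rcases Int.even_or_odd u with he | ho
  · obtain ⟨c, hc⟩ := he
    have hco : IsCoprime ((2 : ℤ) ^ l) (u + 1) := by
      have : u + 1 = 2 * c + 1 := by rw [hc]; ring
      rw [this]
      exact isCoprime_two_pow_of_odd l c
    obtain ⟨k, hk⟩ := hco.dvd_of_dvd_mul_right h3
    -- `r = 1 + 2 ^ (l + 1) * k`
    rcases Int.even_or_odd k with hke | hko
    · obtain ⟨j, hj⟩ := hke
      refine ⟨j, Or.inl ?_⟩
      rw [hk, hj]; ring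
    · obtain ⟨j, hj⟩ := hko
      refine ⟨j, Or.inr (Or.inr (Or.inl ?_))⟩
      rw [hk, hj]; ring
  · obtain ⟨c, hc⟩ := ho
    have hco : IsCoprime ((2 : ℤ) ^ l) u := by
      rw [hc]
      exact isCoprime_two_pow_of_odd l c
    obtain ⟨k, hk⟩ := hco.dvd_of_dvd_mul_left h3
    -- `r + 1 = 2 ^ (l + 1) * k`
    have hr : 2 * u + 1 = -1 + 2 ^ (l + 1) * k := by
      have : u = -1 + 2 ^ l * k := by linarith
      rw [this]; ring
    rw [hr]
    rcases Int.even_or_odd k with hke | hko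
    · obtain ⟨j, hj⟩ := hke
      refine ⟨j, Or.inr (Or.inl ?_)⟩
      rw [hj]; ring
    · obtain ⟨j, hj⟩ := hko
      refine ⟨j, Or.inr (Or.inr (Or.inr ?_))⟩
      rw [hj]; ring

variable {G : Type*} [Group G]

theorem zpow_eq_of_dvd_sub {a : G} {m : ℕ} (ha : orderOf a = 2 ^ m) {i j : ℤ} (h : (2 : ℤ) ^ m ∣ i - j) :
    a ^ i = a ^ j := by
  have h1 : a ^ (i - j) = 1 := by
    rw [← orderOf_dvd_iff_zpow_eq_one, ha]
    exact_mod_cast h
  rw [zpow_sub, mul_inv_eq_one] at h1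
  exact h1

theorem dvd_of_zpow_eq {a : G} {m : ℕ} (ha : orderOf a = 2 ^ m) {i j : ℤ} (h : a ^ i = a ^ j) :
    (2 : ℤ) ^ m ∣ i - j := by
  have h1 : a ^ (i - j) = 1 := by rw [zpow_sub, h, mul_inv_cancel]
  rw [← orderOf_dvd_iff_zpow_eq_one, ha] at h1
  exact_mod_cast h1

/-- Classification of non-abelian `2`-groups with a cyclic maximal subgroup. -/
theorem classify_two_cyc_index [Finite G] (n : ℕ) (hn : 3 ≤ n) (hG : Nat.card G = 2 ^ n) (C : Subgroup G)
    (hC : IsCyclic C) (hCi : C.index = 2) (hna : ∃ x y : G, x * y ≠ y * x) :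
    ∃ a b : G, orderOf a = 2 ^ (n - 1) ∧ (zpowers a).index = 2 ∧ b ∉ zpowers a ∧
      ((b ^ 2 = 1 ∧ b * a * b⁻¹ = a⁻¹) ∨ (b ^ 2 = a ^ (2 ^ (n - 2)) ∧ b * a * b⁻¹ = a⁻¹) ∨
        (4 ≤ n ∧ b ^ 2 = 1 ∧ b * a * b⁻¹ = a ^ (1 + 2 ^ (n - 2))) ∨
        (4 ≤ n ∧ b ^ 2 = 1 ∧ b * a * b⁻¹ = a ^ (2 ^ (n - 2) - 1))) := by
  classical
  haveI hp2 : Fact (Nat.Prime 2) := ⟨Nat.prime_two⟩
  obtain ⟨g, hg⟩ := hC
  set a : G := (g : G) with ha
  have hCa : C = zpowers a := by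
    apply le_antisymm
    · intro u hu
      obtain ⟨k, hk⟩ := hg ⟨u, hu⟩
      refine ⟨k, ?_⟩
      have := congrArg Subtype.val hk
      simpa using this
    · rw [zpowers_le]
      exact g.2
  rw [hCa] at hCi
  have hR : IsPGroup 2 G := IsPGroup.of_card hG
  have hco : IsCoatom (zpowers a) := Cfsg.Agent.Lib.PGroup.isCoatom_of_index_prime (by rw [hCi]; exact Nat.prime_two)
  haveI hCn : (zpowers a).Normal := Cfsg.Agent.Lib.PGroup.normal_of_index_eq_prime hR hCi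
  set m := n - 1 with hm
  have hm2 : 2 ≤ m := by omega
  have hm1 : m - 1 = n - 2 := by omega
  have hnm : n = m + 1 := by omega
  have horder : orderOf a = 2 ^ m := by
    have h1 := Subgroup.card_mul_index (zpowers a)
    rw [hCi, Nat.card_zpowers, hG, hnm, pow_succ] at h1
    exact Nat.eq_of_mul_eq_mul_right (by norm_num) h1
  obtain ⟨x, hx⟩ : ∃ x : G, x ∉ zpowers a := by
    by_contra h
    push Not at h
    have : zpowers a = ⊤ := eq_top_iff.2 (fun y _ => h y)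
    exact hco.1 this
  -- exponents
  obtain ⟨r, hr⟩ : ∃ r : ℤ, a ^ r = x * a * x⁻¹ := hCn.conj_mem a (mem_zpowers a) x
  obtain ⟨s, hs⟩ : ∃ s : ℤ, a ^ s = x ^ 2 := by
    have h1 : x ^ 2 ∈ zpowers a := by
      have := Subgroup.sq_mem_of_index_two hCi x
      exact this
    exact h1
  have hconj : ∀ t : ℤ, x * a ^ t * x⁻¹ = a ^ (r * t) := by
    intro t
    rw [← conj_zpow, ← hr, zpow_mul]
  -- `x ^ 2` commutes with `a`
  have hrr : (2 : ℤ) ^ m ∣ r ^ 2 - 1 := by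
    have h1 : x ^ 2 * a * (x ^ 2)⁻¹ = a ^ (r ^ 2) := by
      have e : x ^ 2 * a * (x ^ 2)⁻¹ = x * (x * a * x⁻¹) * x⁻¹ := by rw [sq]; group
      rw [e, ← hr, hconj, sq, mul_comm r r]
    rw [← hs] at h1
    have h2 : a ^ s * a * (a ^ s)⁻¹ = a := by
      have : Commute (a ^ s) a := (Commute.refl a).zpow_left s
      rw [this.eq, mul_inv_cancel_right]
    rw [h2] at h1
    have h3 : a ^ (r ^ 2) = a ^ (1 : ℤ) := by rw [← h1, zpow_one]
    exact dvd_of_zpow_eq horder h3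
  -- `x` fixes `x ^ 2`
  have hrs : (2 : ℤ) ^ m ∣ (r - 1) * s := by
    have h1 : x * a ^ s * x⁻¹ = a ^ s := by
      rw [hs]
      have : Commute x (x ^ 2) := (Commute.refl x).pow_right 2
      rw [this.eq, mul_inv_cancel_right]
    rw [hconj] at h1
    have := dvd_of_zpow_eq horder h1
    have e : (r - 1) * s = r * s - s := by ring
    rw [e]
    exact this
  -- the square of `x * a ^ t`
  have hsq : ∀ t : ℤ, (x * a ^ t) ^ 2 = a ^ ((r + 1) * t + s) := by
    intro t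
    have e : (x * a ^ t) ^ 2 = (x * a ^ t * x⁻¹) * x ^ 2 * a ^ t := by
      rw [sq, sq]; group
    rw [e, hconj, ← hs, ← zpow_add, ← zpow_add]
    congr 1
    ring
  have hcb : ∀ t : ℤ, (x * a ^ t) * a * (x * a ^ t)⁻¹ = a ^ r := by
    intro t
    have : Commute (a ^ t) a := (Commute.refl a).zpow_left t
    have e : (x * a ^ t) * a * (x * a ^ t)⁻¹ = x * (a ^ t * a * (a ^ t)⁻¹) * x⁻¹ := by group
    rw [e, this.eq, mul_inv_cancel_right, hr]
  have hnot : ∀ t : ℤ, x * a ^ t ∉ zpowers a := by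
    intro t h
    apply hx
    have := (zpowers a).mul_mem h ((zpowers a).inv_mem (Subgroup.zpow_mem_zpowers a t))
    simpa using this
  -- non-commutativity: `r` is not `1`
  have hr1 : ¬ (2 : ℤ) ^ m ∣ r - 1 := by
    intro h
    have h1 : a ^ r = a ^ (1 : ℤ) := zpow_eq_of_dvd_sub horder h
    rw [zpow_one] at h1
    have h2 : x * a = a * x := by
      calc x * a = (x * a * x⁻¹) * x := by group
        _ = a * x := by rw [← hr, h1]
    have hgen : closure ({a, x} : Set G) = ⊤ := by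
      apply hco.2
      refine lt_of_le_of_ne ?_ ?_
      · rw [zpowers_le]
        exact subset_closure (by simp)
      · intro h
        apply hx
        rw [h]
        exact subset_closure (by simp)
    have hab := Subgroup.isMulCommutative_closure (G := G) (k := {a, x}) (by
      rintro _ (rfl | rfl) _ (rfl | rfl)
      · rfl
      · exact h2.symm
      · exact h2
      · rfl)
    rw [hgen] at hab
    obtain ⟨u, v, huv⟩ := hna
    apply huv
    have := hab.is_comm.comm (⟨u, trivial⟩ : (⊤ : Subgroup _)) ⟨v, trivial⟩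
    exact congrArg Subtype.val this
  have h2m : ((2 : ℤ) ^ m) = 2 * 2 ^ (m - 1) := by
    rw [← pow_succ']; congr 1; omega
  -- the case `r ≡ -1`
  have hcaseInv : (2 : ℤ) ^ m ∣ r + 1 → ∃ a b : G, orderOf a = 2 ^ (n - 1) ∧ (zpowers a).index = 2 ∧ b ∉ zpowers a ∧
      ((b ^ 2 = 1 ∧ b * a * b⁻¹ = a⁻¹) ∨ (b ^ 2 = a ^ (2 ^ (n - 2)) ∧ b * a * b⁻¹ = a⁻¹) ∨
        (4 ≤ n ∧ b ^ 2 = 1 ∧ b * a * b⁻¹ = a ^ (1 + 2 ^ (n - 2))) ∨
        (4 ≤ n ∧ b ^ 2 = 1 ∧ b * a * b⁻¹ = a ^ (2 ^ (n - 2) - 1))) := by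
    intro hinv
    have h1 : a ^ r = a⁻¹ := by
      have : a ^ r = a ^ (-1 : ℤ) := zpow_eq_of_dvd_sub horder (by simpa using hinv)
      rwa [zpow_neg_one] at this
    refine ⟨a, x, horder, hCi, hx, ?_⟩
    have hx1 : x * a * x⁻¹ = a⁻¹ := by rw [← hr, h1]
    -- `2 ^ (m-1) ∣ s`
    have hds : (2 : ℤ) ^ (m - 1) ∣ s := by
      obtain ⟨c, hc⟩ := hinv
      obtain ⟨d, hd⟩ := hrs
      refine ⟨c * s - d, ?_⟩
      have h3 : r - 1 = 2 ^ m * c - 2 := by linarith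
      rw [h3, h2m] at hd
      have h4 : (2 : ℤ) * s = 2 * (2 ^ (m - 1) * (c * s - d)) := by
        linear_combination -hd
      exact mul_left_cancel₀ (by norm_num) h4
    obtain ⟨k, hk⟩ := hds
    rcases Int.even_or_odd k with hke | hko
    · obtain ⟨j, hj⟩ := hke
      left
      refine ⟨?_, hx1⟩
      rw [← hs, hk, hj]
      apply (zpow_eq_of_dvd_sub horder ?_).trans (zpow_zero a)
      rw [h2m]
      exact ⟨j, by ring⟩
    · obtain ⟨j, hj⟩ := hko
      right; left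
      refine ⟨?_, hx1⟩
      rw [← hs, hk, hj, ← hm1]
      have : a ^ (2 ^ (m - 1) : ℕ) = a ^ (((2 : ℤ) ^ (m - 1))) := by
        rw [← zpow_natCast]; norm_num
      rw [this]
      apply zpow_eq_of_dvd_sub horder
      rw [h2m]
      exact ⟨j, by ring⟩
  have hmcases : m = 2 ∨ ∃ l, m = l + 3 := by
    by_cases h : m = 2
    · exact Or.inl h
    · exact Or.inr ⟨m - 3, by omega⟩
  have hn4 : m ≠ 2 → 4 ≤ n := by omega
  obtain ⟨w, hw | hw | hw | hw⟩ := int_sq_cases m hm2 r hrr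
  · exact absurd ⟨w, by rw [hw]; ring⟩ hr1
  · exact hcaseInv ⟨w + 0, by rw [hw]; ring⟩
  · -- the modular case
    rcases hmcases with hm3 | ⟨l, hl⟩
    · refine hcaseInv ⟨1 + w, ?_⟩
      rw [hw, hm3]
      norm_num
      ring
    have hm3 : m ≠ 2 := by rw [hl]; omega
    -- `2 ∣ s`
    have hds : (2 : ℤ) ∣ s := by
      obtain ⟨d, hd⟩ := hrs
      have h3 : r - 1 = 2 ^ (m - 1) * (2 * w + 1) := by
        rw [hw, h2m]; ring
      rw [h3, h2m] at hd
      have h4 : (2 * w + 1) * s = 2 * d := by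
        apply mul_left_cancel₀ (pow_ne_zero (m - 1) two_ne_zero : (2 : ℤ) ^ (m - 1) ≠ 0)
        linear_combination hd
      have h5 : (2 : ℤ) ∣ (2 * w + 1) * s := ⟨d, h4⟩
      have h6 : IsCoprime (2 : ℤ) (2 * w + 1) := by
        have := isCoprime_two_pow_of_odd 1 w
        simpa using this
      exact h6.dvd_of_dvd_mul_left h5
    obtain ⟨k, hk⟩ := hds
    have hcop := isCoprime_two_pow_of_odd (m - 1) (2 ^ l + 2 ^ (l + 1) * w)
    obtain ⟨u, v, huv⟩ := hcop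
    have hr2 : r + 1 = 2 * (2 * (2 ^ l + 2 ^ (l + 1) * w) + 1) := by
      rw [hw, hl]
      have e : l + 3 - 1 = l + 2 := by omega
      rw [e]
      ring
    refine ⟨a, x * a ^ (-k * v), horder, hCi, hnot _, Or.inr (Or.inr (Or.inl ⟨hn4 hm3, ?_, ?_⟩))⟩
    · rw [hsq]
      apply (zpow_eq_of_dvd_sub horder ?_).trans (zpow_zero a)
      refine ⟨k * u, ?_⟩
      rw [sub_zero, hr2, hk, h2m]
      linear_combination (-(2 * k)) * huv
    · rw [hcb, hw]
      have e : a ^ (1 + 2 ^ (n - 2) : ℕ) = a ^ ((1 + 2 ^ (m - 1) : ℤ)) := by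
        rw [← zpow_natCast, hm1]
        push_cast
        rfl
      rw [e]
      apply zpow_eq_of_dvd_sub horder
      exact ⟨w, by ring⟩
  · -- the semidihedral case
    rcases hmcases with hm3 | ⟨l, hl⟩
    · exfalso
      apply hr1
      refine ⟨w, ?_⟩
      rw [hw, hm3]
      norm_num
    have hm3 : m ≠ 2 := by rw [hl]; omega
    have hl1 : m - 1 = l + 2 := by rw [hl]; rfl
    -- `2 ^ (m - 1) ∣ s`
    have hds : (2 : ℤ) ^ (m - 1) ∣ s := by
      obtain ⟨d, hd⟩ := hrs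
      have h3 : r - 1 = 2 * (2 * (-1 + 2 ^ l * (2 * w + 1)) + 1) := by
        rw [hw, hl1, hl]
        ring
      rw [h3, h2m, mul_assoc, mul_assoc] at hd
      have h4 : (2 * (-1 + 2 ^ l * (2 * w + 1)) + 1) * s = 2 ^ (m - 1) * d :=
        mul_left_cancel₀ (by norm_num) hd
      have h5 := isCoprime_two_pow_of_odd (m - 1) (-1 + 2 ^ l * (2 * w + 1))
      exact h5.dvd_of_dvd_mul_left ⟨d, h4⟩
    obtain ⟨k, hk⟩ := hds
    refine ⟨a, x * a ^ k, horder, hCi, hnot _, Or.inr (Or.inr (Or.inr ⟨hn4 hm3, ?_, ?_⟩))⟩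
    · rw [hsq]
      apply (zpow_eq_of_dvd_sub horder ?_).trans (zpow_zero a)
      refine ⟨k * (1 + w), ?_⟩
      rw [sub_zero, hk, hw, h2m]
      ring
    · rw [hcb, hw]
      have h1le : 1 ≤ 2 ^ (n - 2) := Nat.one_le_two_pow
      have e : a ^ (2 ^ (n - 2) - 1 : ℕ) = a ^ ((-1 + 2 ^ (m - 1) : ℤ)) := by
        rw [← zpow_natCast, hm1]
        congr 1
        rw [Nat.cast_sub h1le]
        push_cast
        ring
      rw [e]
      apply zpow_eq_of_dvd_sub horder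
      exact ⟨w, by ring⟩

end Cfsg.Agent.Lib.Transfer
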