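import Mathlib
import Cfsg.Agent.Lib.Transfer.MaxClass2
import Cfsg.Agent.Lib.Transfer.TwoMaxCyc
import Cfsg.Agent.Lib.Cl.MaxClass

/-!
# `2`-groups of maximal class
-/

set_option autoImplicit false

universe u

namespace Cfsg.Agent.Lib.Transfer

open Subgroup
open scoped commutatorElement

variable {X : Type u} [Group X] [Finite X]

theorem index_four_data (n : ℕ) (hn : 3 ≤ n) (hX : Nat.card X = 2 ^ n) (hidx : (commutator X).index = 4) :
    ∃ a b : X, orderOf a = 2 ^ (n - 1) ∧ (zpowers a).index = 2 ∧ b ∉ zpowers a ∧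
      (b ^ 2 = 1 ∨ b ^ 2 = a ^ (2 ^ (n - 2))) ∧
      (∃ r O : ℤ, b * a * b⁻¹ = a ^ r ∧ r - 1 = 2 * (2 * O + 1)) ∧
      (b * a * b⁻¹ = a⁻¹ ∨ b * a * b⁻¹ = a ^ (2 ^ (n - 2)) * a⁻¹) := by
  classical
  have hXp : IsPGroup 2 X := IsPGroup.of_card hX
  obtain ⟨a₀, ha₀⟩ := Cfsg.Agent.Lib.Cl.exists_cyclic_index_two _ X rfl hXp hidx
  have h8 : 8 ≤ 2 ^ n := by
    calc 8 = 2 ^ 3 := by norm_num
      _ ≤ 2 ^ n := Nat.pow_le_pow_right (by norm_num) hn
  have hcardC : Nat.card (commutator X) * 4 = 2 ^ n := by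
    rw [← hidx, Subgroup.card_mul_index, hX]
  have hna : ∃ x y : X, x * y ≠ y * x := by
    by_contra hcon
    push Not at hcon
    have h1 : commutator X = ⊥ := by
      rw [eq_bot_iff, _root_.commutator_def, Subgroup.commutator_le]
      intro a _ b _
      rw [commutatorElement_eq_one_iff_commute.2 (hcon a b)]
      exact Subgroup.one_mem _
    rw [h1, Subgroup.card_bot] at hcardC
    omega
  obtain ⟨a, b, ha, hi, hb, hcases⟩ := classify_two_cyc_index n hn hX (zpowers a₀) inferInstance ha₀ hna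
  have hinv : ∃ r O : ℤ, b * a * b⁻¹ = a⁻¹ → b * a * b⁻¹ = a ^ r ∧ r - 1 = 2 * (2 * O + 1) :=
    ⟨-1, -1, fun h => ⟨by rw [h, zpow_neg_one], by norm_num⟩⟩
  obtain ⟨r₀, O₀, hr₀⟩ := hinv
  rcases hcases with ⟨h1, h2⟩ | ⟨h1, h2⟩ | ⟨h4, h1, h2⟩ | ⟨h4, h1, h2⟩
  · exact ⟨a, b, ha, hi, hb, Or.inl h1, ⟨r₀, O₀, hr₀ h2⟩, Or.inl h2⟩
  · exact ⟨a, b, ha, hi, hb, Or.inr h1, ⟨r₀, O₀, hr₀ h2⟩, Or.inl h2⟩
  · -- the modular case is impossible
    exfalso
    set z := a ^ (2 ^ (n - 2)) with hz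
    have hzp : z ^ 2 = 1 := by
      rw [hz, ← pow_mul, ← pow_succ]
      have e : n - 2 + 1 = n - 1 := by omega
      rw [e, ← ha, pow_orderOf_eq_one]
    have hle : commutator X ≤ zpowers z := by
      apply Cfsg.Agent.Lib.Cl.comm_le_of_index_two hi ?_ hb
      · rw [zpowers_le, hz]
        exact Subgroup.npow_mem_zpowers _ _
      · rintro _ ⟨i, rfl⟩
        show b * a ^ i * b⁻¹ * (a ^ i)⁻¹ ∈ _
        rw [← conj_zpow, h2, pow_add, pow_one, ← hz]
        have hc : Commute a z := (Commute.refl a).pow_right _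
        rw [hc.mul_zpow, (hc.zpow_zpow i i).eq, mul_inv_cancel_right]
        exact Subgroup.zpow_mem_zpowers _ _
      · rintro _ ⟨i, rfl⟩ _ ⟨j, rfl⟩
        exact ((Commute.refl a).zpow_zpow i j).eq
    have h5 := Subgroup.card_le_of_le hle
    rw [Nat.card_zpowers] at h5
    have h6 : orderOf z ≤ 2 := Nat.le_of_dvd (by norm_num) (orderOf_dvd_of_pow_eq_one hzp)
    have h7 : 16 ≤ 2 ^ n := by
      calc 16 = 2 ^ 4 := by norm_num
        _ ≤ 2 ^ n := Nat.pow_le_pow_right (by norm_num) h4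
    omega
  · -- the semidihedral case
    obtain ⟨l, hl⟩ : ∃ l, n = l + 4 := ⟨n - 4, by omega⟩
    have e : n - 2 = l + 2 := by omega
    refine ⟨a, b, ha, hi, hb, Or.inl h1, ⟨2 ^ (n - 2) - 1, 2 ^ l - 1, ?_, ?_⟩, Or.inr ?_⟩
    · rw [h2]
      have h1le : 1 ≤ 2 ^ (n - 2) := Nat.one_le_two_pow
      rw [← zpow_natCast]
      congr 1
      rw [Nat.cast_sub h1le]
      push_cast
      rfl
    · rw [e]
      ring
    · rw [h2]
      have h1le : 1 ≤ 2 ^ (n - 2) := Nat.one_le_two_pow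
      rw [pow_sub a h1le, pow_one]

/-- Exactly the maximal class `2`-groups have Klein four abelianization. -/
theorem class_iff_klein (n : ℕ) (hn : 3 ≤ n) (hX : Nat.card X = 2 ^ n) :
    Group.nilpotencyClass X = n - 1 ↔ IsKleinFour (X ⧸ commutator X) := by
  haveI hp2 : Fact (Nat.Prime 2) := ⟨Nat.prime_two⟩
  refine ⟨klein_of_max_class n hn hX, fun hk => ?_⟩
  have hXp : IsPGroup 2 X := IsPGroup.of_card hX
  haveI hnil : Group.IsNilpotent X := hXp.isNilpotent
  have hidx : (commutator X).index = 4 := IsKleinFour.card_four (G := X ⧸ commutator X)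
  obtain ⟨a, b, ha, -, -, -, ⟨r, O, hr, hO⟩, -⟩ := index_four_data n hn hX hidx
  have h1 := le_class_of_conj (m := n - 1) (by omega) ha r O hr hO
  have h2 := class_le_of_card (p := 2) n X hX
  rw [max_eq_left (by omega)] at h2
  omega

theorem exists_cyclic_of_max_class (n : ℕ) (hn : 3 ≤ n) (hX : Nat.card X = 2 ^ n)
    (hc : Group.nilpotencyClass X = n - 1) : ∃ C : Subgroup X, IsCyclic C ∧ C.index = 2 := by
  haveI hp2 : Fact (Nat.Prime 2) := ⟨Nat.prime_two⟩
  have hXp : IsPGroup 2 X := IsPGroup.of_card hX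
  obtain ⟨hidx, -⟩ := max_class_data (p := 2) n (by omega) X hX hc
  obtain ⟨a, ha⟩ := Cfsg.Agent.Lib.Cl.exists_cyclic_index_two _ X rfl hXp (by rw [hidx]; norm_num)
  exact ⟨zpowers a, inferInstance, ha⟩

theorem center_quotient_dihedral (n : ℕ) (hn : 3 ≤ n) (hX : Nat.card X = 2 ^ n)
    (hc : Group.nilpotencyClass X = n - 1) : Nonempty (X ⧸ center X ≃* DihedralGroup (2 ^ (n - 2))) := by
  classical
  haveI hp2 : Fact (Nat.Prime 2) := ⟨Nat.prime_two⟩
  have hXp : IsPGroup 2 X := IsPGroup.of_card hX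
  obtain ⟨hidx, hZc⟩ := max_class_data (p := 2) n (by omega) X hX hc
  replace hZc := hZc hn
  obtain ⟨a, b, ha, hi, hb, hb2, ⟨r, O, hr, hO⟩, hconj⟩ :=
    index_four_data n hn hX (by rw [hidx]; norm_num)
  have hco : IsCoatom (zpowers a) := Cfsg.Agent.Lib.PGroup.isCoatom_of_index_prime (by rw [hi]; exact Nat.prime_two)
  set z := a ^ (2 ^ (n - 2)) with hz
  have hzp : z ^ 2 = 1 := by
    rw [hz, ← pow_mul, ← pow_succ]
    have e : n - 2 + 1 = n - 1 := by omega
    rw [e, ← ha, pow_orderOf_eq_one]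
  have hza : z ∈ zpowers a := Subgroup.npow_mem_zpowers _ _
  have hzo : orderOf z = 2 := by
    rw [hz, orderOf_pow' a (pow_ne_zero _ two_ne_zero), ha]
    have e : 2 ^ (n - 1) = 2 ^ (n - 2) * 2 := by
      rw [← pow_succ]; congr 1; omega
    rw [Nat.gcd_eq_right (pow_dvd_pow 2 (by omega)), e, Nat.mul_div_cancel_left _ (pow_pos (by norm_num) _)]
  have hbz : b * z * b⁻¹ = z := by
    rw [hz, ← conj_pow, hr, ← zpow_natCast, ← zpow_mul, mul_comm, zpow_mul, zpow_natCast, ← hz]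
    have e : r = 1 + 2 * (2 * O + 1) := by linarith
    rw [e, zpow_add, zpow_one, zpow_mul]
    have : z ^ (2 : ℤ) = 1 := by
      rw [show (2 : ℤ) = ((2 : ℕ) : ℤ) by norm_num, zpow_natCast, hzp]
    rw [this, one_zpow, mul_one]
  have hzc : z ∈ center X := by
    have hle : zpowers a ≤ centralizer ({z} : Set X) := by
      rw [zpowers_le]
      rw [Subgroup.mem_centralizer_iff]
      rintro _ rfl
      exact ((Commute.refl a).pow_left _).eq
    have hbm : b ∈ centralizer ({z} : Set X) := by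
      rw [Subgroup.mem_centralizer_iff]
      rintro _ rfl
      calc z * b = (b * z * b⁻¹) * b := by rw [hbz]
        _ = b * z := by group
    have htop : centralizer ({z} : Set X) = ⊤ := by
      apply hco.2
      refine lt_of_le_of_ne hle ?_
      intro h
      apply hb
      rw [h]
      exact hbm
    rw [Subgroup.mem_center_iff]
    intro g
    have : g ∈ centralizer ({z} : Set X) := by rw [htop]; trivial
    rw [Subgroup.mem_centralizer_iff] at this
    exact (this z rfl).symm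
  have hZeq : zpowers z = center X := Subgroup.eq_of_le_of_card_ge ((Subgroup.zpowers_le).2 hzc) (by
    rw [hZc, Nat.card_zpowers, hzo])
  have hZa : center X ≤ zpowers a := by
    rw [← hZeq, zpowers_le]
    exact hza
  -- the quotient
  let f : X →* X ⧸ center X := QuotientGroup.mk' (center X)
  have hfz : f z = 1 := (QuotientGroup.eq_one_iff z).2 hzc
  have hQc : Nat.card (X ⧸ center X) = 2 ^ (n - 1) := by
    have h1 := Subgroup.card_mul_index (center X)
    rw [hZc, hX] at h1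
    have e : 2 ^ n = 2 * 2 ^ (n - 1) := by
      rw [← pow_succ']; congr 1; omega
    rw [e] at h1
    exact Nat.eq_of_mul_eq_mul_left (by norm_num) h1
  have hao : orderOf (f a) = 2 ^ (n - 2) := by
    obtain ⟨l, hl⟩ : ∃ l, n = l + 3 := ⟨n - 3, by omega⟩
    have e : n - 2 = l + 1 := by omega
    rw [e]
    apply orderOf_eq_prime_pow
    · intro h
      rw [← map_pow] at h
      have h1 : a ^ 2 ^ l ∈ center X := (QuotientGroup.eq_one_iff _).1 h
      have h2 : b * a ^ 2 ^ l * b⁻¹ = a ^ 2 ^ l := by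
        have := Subgroup.mem_center_iff.1 h1 b
        rw [this]; group
      rw [← conj_pow, hr, ← zpow_natCast, ← zpow_natCast, ← zpow_mul] at h2
      have h3 := dvd_of_zpow_eq ha h2
      have e2 : n - 1 = l + 2 := by omega
      have e3 : r * ((2 ^ l : ℕ) : ℤ) - ((2 ^ l : ℕ) : ℤ) = 2 ^ (l + 1) * (2 * O + 1) := by
        have : r = 1 + 2 * (2 * O + 1) := by linarith
        rw [this]
        push_cast
        ring
      rw [e3, e2, show l + 2 = (l + 1) + 1 by omega, pow_succ (2 : ℤ) (l + 1)] at h3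
      have h4 : (2 : ℤ) ∣ 2 * O + 1 := (mul_dvd_mul_iff_left (pow_ne_zero _ two_ne_zero)).1 h3
      omega
    · rw [← map_pow, ← e, ← hz, hfz]
  have hQi : (zpowers (f a)).index = 2 := by
    have h1 := Subgroup.card_mul_index (zpowers (f a))
    rw [Nat.card_zpowers, hao, hQc] at h1
    have e : 2 ^ (n - 1) = 2 ^ (n - 2) * 2 := by
      rw [← pow_succ]; congr 1; omega
    rw [e] at h1
    exact Nat.eq_of_mul_eq_mul_left (pow_pos (by norm_num) _) h1
  have hbnot : f b ∉ zpowers (f a) := by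
    intro h
    obtain ⟨k, hk⟩ := h
    have hk' : f a ^ k = f b := hk
    have h1 : f ((a ^ k)⁻¹ * b) = 1 := by
      rw [map_mul, map_inv, map_zpow, hk', inv_mul_cancel]
    have h2 : (a ^ k)⁻¹ * b ∈ center X := (QuotientGroup.eq_one_iff _).1 h1
    apply hb
    have h3 := (zpowers a).mul_mem (Subgroup.zpow_mem_zpowers a k) (hZa h2)
    simpa using h3
  have hb2' : (f b) ^ 2 = 1 := by
    rw [← map_pow]
    rcases hb2 with h | h
    · rw [h, map_one]
    · rw [h, hfz]
  have hconj' : f b * f a * (f b)⁻¹ = (f a)⁻¹ := by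
    rw [← map_inv, ← map_mul, ← map_mul]
    rcases hconj with h | h
    · rw [h, map_inv]
    · rw [h, map_mul, hfz, one_mul, map_inv]
  obtain ⟨m, ⟨e⟩⟩ := Cfsg.Agent.Lib.Cl.dihedral_of_inverts hao (by omega) hQi hbnot hb2' hconj'
  have hm : m = 2 ^ (n - 2) := by
    have h1 := Nat.card_congr e.toEquiv
    rw [hQc, DihedralGroup.nat_card] at h1
    have e2 : 2 ^ (n - 1) = 2 * 2 ^ (n - 2) := by
      rw [← pow_succ']; congr 1; omega
    rw [e2] at h1
    exact (Nat.eq_of_mul_eq_mul_left (by norm_num) h1).symm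
  rw [hm] at e
  exact ⟨e⟩

end Cfsg.Agent.Lib.Transfer
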