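import Mathlib
import Cfsg.Agent.Lib.Amalgam.ResOf

/-!
# Thompson's critical subgroup
-/

set_option autoImplicit false

namespace Cfsg.Agent.Lib.Transfer

open Subgroup
open scoped commutatorElement

/-- Thompson's critical subgroup lemma: a finite `p`-group `P` has a characteristic
subgroup `C` with `C^p ≤ Z(C)`, `[P, C] ≤ Z(C)` and `C_P(C) ≤ C`. -/
theorem exists_critical {P : Type*} [Group P] [Finite P] {p : ℕ} [hp : Fact p.Prime]
    (hP : IsPGroup p P) :
    ∃ C : Subgroup P, C.Characteristic ∧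
      (∀ c : P, c ∈ C → c ^ p ∈ C ⊓ centralizer (C : Set P)) ∧
      (∀ r c : P, c ∈ C → ⁅r, c⁆ ∈ C ⊓ centralizer (C : Set P)) ∧
      centralizer (C : Set P) ≤ C := by
  classical
  have hnil : Group.IsNilpotent P := hP.isNilpotent
  let S : Set (Subgroup P) := {C | C.Characteristic ∧
      (∀ c : P, c ∈ C → c ^ p ∈ C ⊓ centralizer (C : Set P)) ∧
      ∀ r c : P, c ∈ C → ⁅r, c⁆ ∈ C ⊓ centralizer (C : Set P)}
  have hbot : (⊥ : Subgroup P) ∈ S := by
    refine ⟨inferInstance, ?_, ?_⟩
    · intro c hc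
      rw [Subgroup.mem_bot] at hc
      subst hc
      rw [one_pow]
      exact Subgroup.one_mem _
    · intro r c hc
      rw [Subgroup.mem_bot] at hc
      subst hc
      rw [commutatorElement_one_right]
      exact Subgroup.one_mem _
  obtain ⟨C, hC⟩ := Set.Finite.exists_maximal (Set.toFinite S) ⟨⊥, hbot⟩
  obtain ⟨hCn, hCpow, hCcomm⟩ := hC.prop
  refine ⟨C, hCn, hCpow, hCcomm, ?_⟩
  set cen := centralizer (C : Set P) with hcen
  haveI hcenN : cen.Characteristic := inferInstance
  set Z := C ⊓ cen with hZ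
  haveI hZch : Z.Characteristic := inferInstance
  have hZn : Z.Normal := inferInstance
  have hDn : cen.Normal := inferInstance
  let T : Subgroup P :=
    { carrier := {c | ∀ r : P, ⁅r, c⁆ ∈ Z}
      one_mem' := fun r => by rw [commutatorElement_one_right]; exact Z.one_mem
      mul_mem' := by
        rintro c d hc' hd'
        intro r
        have : ⁅r, c * d⁆ = ⁅r, c⁆ * (c * ⁅r, d⁆ * c⁻¹) := by
          simp only [commutatorElement_def]; group
        rw [this]
        exact Z.mul_mem (hc' r) (hZn.conj_mem _ (hd' r) c)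
      inv_mem' := by
        rintro c hc'
        intro r
        have : ⁅r, c⁻¹⁆ = c⁻¹ * ⁅r, c⁆⁻¹ * c⁻¹⁻¹ := by
          simp only [commutatorElement_def]; group
        rw [this]
        exact hZn.conj_mem _ (Z.inv_mem (hc' r)) c⁻¹ }
  have hmemT : ∀ c : P, c ∈ T ↔ ∀ r : P, ⁅r, c⁆ ∈ Z := fun c => Iff.rfl
  haveI hTch : T.Characteristic := by
    rw [characteristic_iff_le_comap]
    intro φ c hc
    rw [Subgroup.mem_comap, hmemT]
    intro r
    have h1 : ⁅r, φ c⁆ = φ ⁅φ.symm r, c⁆ := by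
      simp only [commutatorElement_def, map_mul, map_inv, MulEquiv.apply_symm_apply]
    have h2 := (characteristic_iff_le_comap.mp hZch φ) ((hmemT c).mp hc (φ.symm r))
    rw [Subgroup.mem_comap] at h2
    show ⁅r, φ c⁆ ∈ Z
    rw [h1]
    exact h2
  have hCT : C ≤ T := fun c hc r => hCcomm r c hc
  -- `E = {y ∈ T | y ^ p ∈ Z}`
  have hpowmul : ∀ a b : P, b ∈ T → a ^ p ∈ Z → b ^ p ∈ Z → (a * b) ^ p ∈ Z := by
    intro a b hb ha' hb'
    have hc : Commute ((a : P) : P ⧸ Z) ((b : P) : P ⧸ Z) := by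
      show _ * _ = _ * _
      rw [← QuotientGroup.mk_mul, ← QuotientGroup.mk_mul, QuotientGroup.eq]
      have h := hb a⁻¹
      have e : (a * b)⁻¹ * (b * a) = b⁻¹ * ⁅a⁻¹, b⁆ * b⁻¹⁻¹ := by
        simp only [commutatorElement_def]; group
      rw [e]
      exact hZn.conj_mem _ h b⁻¹
    rw [← QuotientGroup.eq_one_iff] at ha' hb' ⊢
    rw [QuotientGroup.mk_pow] at ha' hb' ⊢
    rw [QuotientGroup.mk_mul, hc.mul_pow, ha', hb', one_mul]
  let E : Subgroup P :=
    { carrier := {c | c ∈ T ∧ c ^ p ∈ Z}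
      one_mem' := ⟨T.one_mem, by rw [one_pow]; exact Z.one_mem⟩
      mul_mem' := fun {a b} ha hb => ⟨T.mul_mem ha.1 hb.1, hpowmul a b hb.1 ha.2 hb.2⟩
      inv_mem' := fun {a} ha => ⟨T.inv_mem ha.1, by rw [inv_pow]; exact Z.inv_mem ha.2⟩ }
  have hmemE : ∀ c : P, c ∈ E ↔ c ∈ T ∧ c ^ p ∈ Z := fun c => Iff.rfl
  haveI hEch : E.Characteristic := by
    rw [characteristic_iff_le_comap]
    intro φ c hc
    rw [Subgroup.mem_comap, hmemE]
    obtain ⟨h1, h2⟩ := (hmemE c).1 hc
    refine ⟨(characteristic_iff_le_comap.mp hTch φ) h1, ?_⟩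
    have h3 := (characteristic_iff_le_comap.mp hZch φ) h2
    rw [Subgroup.mem_comap, map_pow] at h3
    exact h3
  have hCE : C ≤ E := fun c hc => ⟨hCT hc, hCpow c hc⟩
  let X : Subgroup P := E ⊓ cen
  haveI hXch : X.Characteristic := inferInstance
  have hC'S : C ⊔ X ∈ S := by
    have hC'E : C ⊔ X ≤ E := sup_le hCE inf_le_left
    have h2 : C ⊔ X ≤ centralizer (Z : Set P) := by
      refine sup_le ?_ ?_
      · intro c' hc'
        rw [Subgroup.mem_centralizer_iff]
        intro z hz
        have := (Subgroup.mem_centralizer_iff.1 hz.2) c' hc'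
        exact this.symm
      · intro x hx
        rw [Subgroup.mem_centralizer_iff]
        intro z hz
        exact (Subgroup.mem_centralizer_iff.1 hx.2) z hz.1
    have h3 : Z ≤ (C ⊔ X) ⊓ centralizer ((C ⊔ X : Subgroup P) : Set P) := by
      intro z hz
      refine ⟨le_sup_left (a := C) hz.1, ?_⟩
      show z ∈ centralizer _
      rw [Subgroup.mem_centralizer_iff]
      intro y hy
      exact (Subgroup.mem_centralizer_iff.1 (h2 hy) _ hz).symm
    refine ⟨inferInstance, ?_, ?_⟩
    · intro c hc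
      exact h3 (hC'E hc).2
    · intro r c hc
      exact h3 ((hC'E hc).1 r)
  have hXC : X ≤ C := (hC.le_of_ge hC'S le_sup_left).trans' le_sup_right
  -- `T ⊓ cen ≤ C`
  have hXC' : T ⊓ cen ≤ C := by
    intro x hx
    by_contra hxC
    have hxZ : x ∉ Z := fun h => hxC h.1
    -- powers
    have hord : ∃ k : ℕ, x ^ p ^ k ∈ Z := by
      obtain ⟨k, hk⟩ := hP x
      exact ⟨k, by rw [hk]; exact Z.one_mem⟩
    have hk0 := Nat.find_spec hord
    have hkpos : Nat.find hord ≠ 0 := by
      intro h0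
      rw [h0, pow_zero, pow_one] at hk0
      exact hxZ hk0
    obtain ⟨k, hk⟩ := Nat.exists_eq_succ_of_ne_zero hkpos
    have hmin : x ^ p ^ k ∉ Z := Nat.find_min hord (by omega)
    have hy : x ^ p ^ k ∈ X := by
      refine ⟨⟨T.pow_mem hx.1 _, ?_⟩, cen.pow_mem hx.2 _⟩
      rw [← pow_mul, ← pow_succ]
      rw [hk] at hk0
      exact hk0
    exact hmin ⟨hXC hy, cen.pow_mem hx.2 _⟩
  -- the descent along the lower central series
  obtain ⟨n, hn⟩ := _root_.nilpotent_iff_lowerCentralSeries.1 hnil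
  have key : ∀ m k, k + m = n → ∀ x, x ∈ cen → x ∈ (⊤ : Subgroup P).lowerCentralSeries k → x ∈ Z := by
    intro m
    induction m with
    | zero =>
      intro k hk x hx hxL
      rw [add_zero] at hk
      rw [hk, hn, Subgroup.mem_bot] at hxL
      rw [hxL]
      exact Z.one_mem
    | succ m ih =>
      intro k hk x hx hxL
      have hT : x ∈ T := by
        intro r
        have h1 : ⁅r, x⁆ ∈ cen := by
          have h2 : r * x * r⁻¹ ∈ cen := hDn.conj_mem x hx r
          rw [commutatorElement_def]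
          exact cen.mul_mem h2 (cen.inv_mem hx)
        apply ih (k + 1) (by omega) _ h1
        have h3 : ⁅x, r⁆ ∈ (⊤ : Subgroup P).lowerCentralSeries (k + 1) := by
          rw [Subgroup.lowerCentralSeries_succ]
          exact Subgroup.commutator_mem_commutator hxL (Subgroup.mem_top _)
        have h4 := Subgroup.inv_mem _ h3
        rw [commutatorElement_inv] at h4
        exact h4
      exact ⟨hXC' ⟨hT, hx⟩, hx⟩
  intro x hx
  have := key n 0 (by omega) x hx (by rw [Subgroup.lowerCentralSeries_zero]; exact Subgroup.mem_top _)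
  exact this.1

/-- The frattini form of the critical subgroup. -/
theorem frattini_map_le_centralizer {P : Type*} [Group P] [Finite P] {p : ℕ} [hp : Fact p.Prime]
    (H : Subgroup P) (h1 : ∀ c : P, c ∈ H → c ^ p ∈ H ⊓ centralizer (H : Set P))
    (h2 : ∀ r c : P, c ∈ H → ⁅r, c⁆ ∈ H ⊓ centralizer (H : Set P)) :
    (frattini H).map H.subtype ≤ centralizer (H : Set P) := by
  have := Cfsg.Agent.Lib.Amalgam.frattini_le_of_elementary_quotient (p := p) (P := H)
    ((centralizer (H : Set P)).subgroupOf H)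
    (fun a b => by
      rw [Subgroup.mem_subgroupOf]
      exact (h2 (a : P) (b : P) b.2).2)
    (fun a => by
      rw [Subgroup.mem_subgroupOf]
      exact (h1 (a : P) a.2).2)
  rintro _ ⟨x, hx, rfl⟩
  have h3 := this hx
  rw [Subgroup.mem_subgroupOf] at h3
  exact h3

end Cfsg.Agent.Lib.Transfer
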