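import Mathlib
import Cfsg.Agent.Lib.Transfer.Critical
import Cfsg.Agent.Lib.Transfer.Special
import Cfsg.Agent.Lib.Transfer.Frat

/-!
# Applications of the critical subgroup
-/

set_option autoImplicit false

namespace Cfsg.Agent.Lib.Transfer

open Subgroup
open scoped commutatorElement

variable {G : Type*} [Group G] {p : ℕ}

theorem pow_apply_of_fixed (a : MulAut G) (x : G) (h : a (x⁻¹ * a x) = x⁻¹ * a x) (n : ℕ) :
    (a ^ n) x = x * (x⁻¹ * a x) ^ n := by
  induction n with
  | zero => simp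
  | succ n ih =>
    rw [pow_succ', MulAut.mul_apply, ih, map_mul, map_pow, h, pow_succ', ← mul_assoc]
    group

theorem fix_of_step [Finite G] [Fact p.Prime] (hG : IsPGroup p G) (a : MulAut G)
    (ha : Nat.Coprime (orderOf a) p) (x : G) (h : a (x⁻¹ * a x) = x⁻¹ * a x) : a x = x := by
  have h1 := pow_apply_of_fixed a x h (orderOf a)
  rw [pow_orderOf_eq_one, MulAut.one_apply] at h1
  have h2 : (x⁻¹ * a x) ^ orderOf a = 1 := by
    have := mul_left_cancel (a := x) (b := 1) (c := (x⁻¹ * a x) ^ orderOf a) (by rw [mul_one]; exact h1)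
    exact this.symm
  obtain ⟨k, hk⟩ := hG (x⁻¹ * a x)
  have h3 : orderOf (x⁻¹ * a x) ∣ orderOf a := orderOf_dvd_of_pow_eq_one h2
  have h4 : orderOf (x⁻¹ * a x) ∣ p ^ k := orderOf_dvd_of_pow_eq_one hk
  have h5 : Nat.Coprime (orderOf a) (p ^ k) := ha.pow_right k
  have h6 : orderOf (x⁻¹ * a x) = 1 := Nat.Coprime.eq_one_of_dvd
    (Nat.Coprime.coprime_dvd_left h3 h5) h4
  rw [orderOf_eq_one_iff] at h6
  have : a x = x * (x⁻¹ * a x) := by group
  rw [this, h6, mul_one]

/-- If `p`-th power is multiplicative on an `a`-invariant subgroup `H`, and `a` fixes the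
elements of order dividing `p` of `H`, then `a` fixes `H`. -/
theorem fix_of_pow_hom [Finite G] [Fact p.Prime] (hG : IsPGroup p G) (a : MulAut G)
    (ha : Nat.Coprime (orderOf a) p) (H : Subgroup G) (hH : ∀ x ∈ H, a x ∈ H)
    (hpow : ∀ x ∈ H, ∀ y ∈ H, (x * y) ^ p = x ^ p * y ^ p)
    (hfix : ∀ x ∈ H, x ^ p = 1 → a x = x) : ∀ x ∈ H, a x = x := by
  have key : ∀ k : ℕ, ∀ x ∈ H, x ^ p ^ k = 1 → a x = x := by
    intro k
    induction k with
    | zero =>
      intro x _ hx
      rw [pow_zero, pow_one] at hx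
      rw [hx, map_one]
    | succ k ih =>
      intro x hx hxk
      have hw : a (x ^ p) = x ^ p := by
        apply ih _ (H.pow_mem hx p)
        rw [← pow_mul, ← pow_succ']
        exact hxk
      rw [map_pow] at hw
      have hc : x⁻¹ * a x ∈ H := H.mul_mem (H.inv_mem hx) (hH x hx)
      have hcp : (x⁻¹ * a x) ^ p = 1 := by
        rw [hpow _ (H.inv_mem hx) _ (hH x hx), hw, inv_pow, inv_mul_cancel]
      exact fix_of_step hG a ha x (hfix _ hc hcp)
  intro x hx
  obtain ⟨k, hk⟩ := hG x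
  exact key k x hx hk

/-- A `p'`-automorphism which is trivial on a normal subgroup containing its centralizer is trivial. -/
theorem eq_one_of_fix_normal [Finite G] [Fact p.Prime] (hG : IsPGroup p G) (a : MulAut G)
    (ha : Nat.Coprime (orderOf a) p) (H : Subgroup G) [hn : H.Normal]
    (hC : centralizer (H : Set G) ≤ H) (hfix : ∀ x ∈ H, a x = x) : a = 1 := by
  ext g
  rw [MulAut.one_apply]
  apply fix_of_step hG a ha
  apply hfix
  apply hC
  rw [Subgroup.mem_centralizer_iff]
  intro h hh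
  have h1 : a (g * h * g⁻¹) = g * h * g⁻¹ := hfix _ (hn.conj_mem h hh g)
  rw [map_mul, map_mul, map_inv, hfix h hh] at h1
  have h2 : a g = g * (g⁻¹ * a g) := by group
  have h3 : (g⁻¹ * a g) * h = h * (g⁻¹ * a g) := by
    have e : (g⁻¹ * a g) * h = g⁻¹ * (a g * h * (a g)⁻¹) * a g := by group
    rw [e, h1]
    group
  exact h3.symm

/-- On a critical subgroup, for odd `p`, the `p`-th power map is multiplicative. -/
theorem mul_pow_of_critical [Fact p.Prime] (hp : p ≠ 2) (H : Subgroup G)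
    (h1 : ∀ c : G, c ∈ H → c ^ p ∈ H ⊓ centralizer (H : Set G))
    (h2 : ∀ r c : G, c ∈ H → ⁅r, c⁆ ∈ H ⊓ centralizer (H : Set G)) :
    ∀ x ∈ H, ∀ y ∈ H, (x * y) ^ p = x ^ p * y ^ p := by
  intro x hx y hy
  have hc := h2 y x hx
  have hcx : Commute ⁅y, x⁆ x := ((Subgroup.mem_centralizer_iff.1 hc.2) x hx).symm
  have hcy : Commute ⁅y, x⁆ y := ((Subgroup.mem_centralizer_iff.1 hc.2) y hy).symm
  have hyp : Commute (y ^ p) x := ((Subgroup.mem_centralizer_iff.1 (h1 y hy).2) x hx).symm
  have hcp : ⁅y, x⁆ ^ p = 1 := by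
    rw [← comm_pow_left hcy, commutatorElement_eq_one_iff_commute]
    exact hyp
  rw [mul_pow_class2 hcx hcy]
  have h2lt : 2 < p := lt_of_le_of_ne (Fact.out : p.Prime).two_le (Ne.symm hp)
  obtain ⟨k, hk⟩ := (Fact.out : p.Prime).dvd_choose_self (k := 2) (by norm_num) h2lt
  rw [hk, pow_mul, hcp, one_pow, mul_one]

/-- For odd `p`, a `p'`-automorphism of a `p`-group fixing all elements of order dividing `p` is
trivial. -/
theorem eq_one_of_fix_omega [Finite G] [Fact p.Prime] (hp : p ≠ 2) (hG : IsPGroup p G) (a : MulAut G)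
    (ha : Nat.Coprime (orderOf a) p) (h : ∀ x : G, x ^ p = 1 → a x = x) : a = 1 := by
  obtain ⟨H, hch, h1, h2, h3⟩ := exists_critical hG
  haveI : H.Normal := inferInstance
  apply eq_one_of_fix_normal hG a ha H h3
  apply fix_of_pow_hom hG a ha H
  · intro x hx
    have := (characteristic_iff_le_comap.mp hch a) hx
    exact this
  · exact mul_pow_of_critical hp H h1 h2
  · intro x _ hx
    exact h x hx

end Cfsg.Agent.Lib.Transfer
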