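import Cfsg.Agent.Lib.Transfer.Tate
import Mathlib

/-! Puig's hyperfocal subgroup theorem. -/

set_option autoImplicit false

universe u

namespace Cfsg.Agent.Lib.Transfer

open Cfsg Cfsg.Agent.Lib.Techniques
open scoped commutatorElement

section

variable {G : Type u} [Group G]

/-- The generators of the hyperfocal subgroup. -/
def hyperGens (p : ℕ) (P : Subgroup G) : Set G :=
  {y | ∃ Q : Subgroup G, Q ≤ P ∧ ∃ x ∈ Q, ∃ g ∈ Subgroup.normalizer (Q : Set G),
    Nat.Coprime (orderOf g) p ∧ y = x⁻¹ * (g⁻¹ * x * g)}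

/-- The hyperfocal subgroup. -/
def hyperfocal (p : ℕ) (P : Subgroup G) : Subgroup G := Subgroup.closure (hyperGens p P)

theorem hyperfocal_le (p : ℕ) (P : Subgroup G) [Finite G] : hyperfocal p P ≤ P := by
  rw [hyperfocal, Subgroup.closure_le]
  rintro _ ⟨Q, hQ, x, hx, g, hg, -, rfl⟩
  exact mul_mem (hQ (inv_mem hx)) (hQ (conj_inv_mem_of_mem_normalizer hg hx))

variable [Finite G] {p : ℕ} [Fact p.Prime]

/-- Elements of `O^p(N(D))` act on `D` with commutators in the hyperfocal subgroup. -/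
theorem comm_mem_hyperfocal_of_residual {P D : Subgroup G} (hD : D ≤ P)
    {c : Subgroup.normalizer (D : Set G)} (hc : c ∈ pResidual p (Subgroup.normalizer (D : Set G))) :
    ∀ a ∈ D, a⁻¹ * ((c : G)⁻¹ * a * c) ∈ hyperfocal p P := by
  rw [pResidual] at hc
  induction hc using Subgroup.closure_induction with
  | mem g hg =>
    intro a ha
    apply Subgroup.subset_closure
    exact ⟨D, hD, a, ha, g, g.2, by rwa [Subgroup.orderOf_coe], rfl⟩
  | one => intro a _; simp
  | mul g h hg hh ig ih =>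
    intro a ha
    have hb : (g : G)⁻¹ * a * g ∈ D := conj_inv_mem_of_mem_normalizer g.2 ha
    have e : a⁻¹ * (((g * h : Subgroup.normalizer (D : Set G)) : G)⁻¹ * a * ((g * h : Subgroup.normalizer (D : Set G)) : G)) =
        (a⁻¹ * ((g : G)⁻¹ * a * g)) * (((g : G)⁻¹ * a * g)⁻¹ * ((h : G)⁻¹ * ((g : G)⁻¹ * a * g) * h)) := by
      simp only [Subgroup.coe_mul]; group
    rw [e]
    exact mul_mem (ig a ha) (ih _ hb)
  | inv g hg ig =>
    intro a ha
    have hb : (g : G) * a * (g : G)⁻¹ ∈ D := conj_mem_of_mem_normalizer g.2 ha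
    have h1 := ig _ hb
    have e : a⁻¹ * ((((g⁻¹ : Subgroup.normalizer (D : Set G))) : G)⁻¹ * a * ((g⁻¹ : Subgroup.normalizer (D : Set G)) : G)) =
        (((g : G) * a * (g : G)⁻¹)⁻¹ * ((g : G)⁻¹ * ((g : G) * a * (g : G)⁻¹) * g))⁻¹ := by
      simp only [Subgroup.coe_inv]; group
    rw [e]
    exact inv_mem h1

/-- Along an Alperin chain, the commutators lie in the hyperfocal subgroup times `P'`. -/
theorem fus_comm_mem {P : Sylow p G} {A : Set G} {g : G} (h : Fus P A g) :
    ∀ a ∈ A, a⁻¹ * (g⁻¹ * a * g) ∈ hyperfocal p (P : Subgroup G) ⊔ ⁅(P : Subgroup G), (P : Subgroup G)⁆ := by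
  induction h with
  | nil A => intro a _; simp
  | cons A Q x g hx ht hA _ ih =>
    intro a ha
    set D := (P : Subgroup G) ⊓ (Q : Subgroup G) with hD
    have hDP : D ≤ (P : Subgroup G) := inf_le_left
    have haD : a ∈ D := hA ha
    -- factor `x = c t`
    have hS : SylowIn p ((P : Subgroup G) ⊓ Subgroup.normalizer (D : Set G)) (Subgroup.normalizer (D : Set G)) :=
      ⟨inf_le_right, P.isPGroup'.to_le inf_le_left, ht.1⟩
    have hsup := sup_pResidual_sylow (p := p) hS.toSylow
    obtain ⟨c, hc, t, ht', hxe⟩ := exists_mul_of_mem_sup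
      (show (⟨x, hx⟩ : Subgroup.normalizer (D : Set G)) ∈
        pResidual p (Subgroup.normalizer (D : Set G)) ⊔ (hS.toSylow : Subgroup (Subgroup.normalizer (D : Set G))) by
          rw [hsup]; trivial)
    have hxe' : x = (c : G) * (t : G) := congrArg Subtype.val hxe
    have htP : (t : G) ∈ (P : Subgroup G) := ht'.1
    have h1 := comm_mem_hyperfocal_of_residual hDP hc a haD
    have hb : (c : G)⁻¹ * a * c ∈ D := conj_inv_mem_of_mem_normalizer c.2 haD
    -- the three pieces
    have h2 := ih (x⁻¹ * a * x) ⟨a, ha, rfl⟩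
    have h3 : ((c : G)⁻¹ * a * c)⁻¹ * ((t : G)⁻¹ * ((c : G)⁻¹ * a * c) * t) ∈ ⁅(P : Subgroup G), (P : Subgroup G)⁆ := by
      have e : ((c : G)⁻¹ * a * c)⁻¹ * ((t : G)⁻¹ * ((c : G)⁻¹ * a * c) * t) =
          ⁅((c : G)⁻¹ * a * c)⁻¹, (t : G)⁻¹⁆ := by
        simp only [commutatorElement_def]; group
      rw [e]
      exact Subgroup.commutator_mem_commutator (inv_mem (hDP hb)) (inv_mem htP)
    have e : a⁻¹ * ((x * g)⁻¹ * a * (x * g)) =
        (a⁻¹ * ((c : G)⁻¹ * a * c)) * ((((c : G)⁻¹ * a * c)⁻¹ * ((t : G)⁻¹ * ((c : G)⁻¹ * a * c) * t)) *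
          ((x⁻¹ * a * x)⁻¹ * (g⁻¹ * (x⁻¹ * a * x) * g))) := by
      rw [hxe']; group
    rw [e]
    exact mul_mem (Subgroup.mem_sup_left h1) (mul_mem (Subgroup.mem_sup_right h3) h2)

/-- The focal subgroup lies in `hyp(P) P'`. -/
theorem focal_le_hyperfocal_sup (P : Sylow p G) :
    commutator G ⊓ (P : Subgroup G) ≤ hyperfocal p (P : Subgroup G) ⊔ ⁅(P : Subgroup G), (P : Subgroup G)⁆ := by
  rw [Subgroup.commutator_inf_eq_focalSubgroup P, Subgroup.focalSubgroup_def, Subgroup.closure_le]
  rintro g ⟨hg, x, hx, u, rfl⟩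
  have h1 : u * x⁻¹ * u⁻¹ ∈ (P : Subgroup G) := by
    have e : u * x⁻¹ * u⁻¹ = x⁻¹ * ⁅x, u⁆ := by simp [commutatorElement_def, mul_assoc]
    rw [e]; exact mul_mem (inv_mem hx) hg
  have hF := alperin_fus P {x⁻¹} u⁻¹ (Set.singleton_subset_iff.mpr (inv_mem hx)) (by
    rw [Set.image_singleton, Set.singleton_subset_iff]
    simp only [inv_inv]
    exact h1)
  have h2 := fus_comm_mem hF x⁻¹ rfl
  simp only [inv_inv] at h2
  have e : ⁅x, u⁆ = x * (u * x⁻¹ * u⁻¹) := by simp [commutatorElement_def, mul_assoc]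
  rw [SetLike.mem_coe, e]
  exact h2

end

/-- With `O^p(G) = G` a `p`-element lies in the derived subgroup. -/
theorem mem_commutator_of_residual_top {G : Type u} [Group G] [Finite G] {p : ℕ} [hpF : Fact p.Prime]
    (hres : pResidual p G = ⊤) {x : G} {k : ℕ} (hx : x ^ p ^ k = 1) : x ∈ commutator G := by
  have hp : p.Prime := hpF.out
  let A := Abelianization G
  set n := Nat.card A with hn
  have hnpos : n ≠ 0 := Nat.card_pos.ne'
  set m := n / p ^ n.factorization p with hm
  have hmc : Nat.Coprime m p := (Nat.coprime_ordCompl hp hnpos).symm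
  have hnm : p ^ n.factorization p * m = n := Nat.ordProj_mul_ordCompl_eq_self n p
  let f : G →* A := (powMonoidHom m : A →* A).comp Abelianization.of
  have hle : pResidual p G ≤ f.ker := by
    rw [pResidual, Subgroup.closure_le]
    intro g hg
    show (Abelianization.of g) ^ m = 1
    have h1 : orderOf (Abelianization.of g : A) ∣ orderOf g := orderOf_map_dvd _ g
    have h2 : orderOf (Abelianization.of g : A) ∣ n := orderOf_dvd_natCard _
    have h3 : Nat.Coprime (orderOf (Abelianization.of g : A)) (p ^ n.factorization p) :=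
      Nat.Coprime.pow_right _ (Nat.Coprime.coprime_dvd_left h1 hg)
    rw [← hnm] at h2
    exact orderOf_dvd_iff_pow_eq_one.mp (h3.dvd_of_dvd_mul_left h2)
  have h1 : (Abelianization.of x : A) ^ m = 1 := hle (by rw [hres]; trivial : x ∈ pResidual p G)
  have h2 : (Abelianization.of x : A) ^ p ^ k = 1 := by
    rw [← map_pow, hx, map_one]
  have h3 : orderOf (Abelianization.of x : A) = 1 :=
    Nat.eq_one_of_dvd_coprimes (Nat.Coprime.pow_right k hmc) (orderOf_dvd_of_pow_eq_one h1)
      (orderOf_dvd_of_pow_eq_one h2)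
  have h4 : (Abelianization.of x : A) = 1 := orderOf_eq_one_iff.mp h3
  have : x ∈ (Abelianization.of : G →* A).ker := h4
  rwa [Abelianization.ker_of] at this

/-- In a group with `O^p(G) = G` a Sylow subgroup equals its hyperfocal subgroup. -/
theorem le_hyperfocal_of_residual_top {G : Type u} [Group G] [Finite G] {p : ℕ} [Fact p.Prime]
    (P : Sylow p G) (hres : pResidual p G = ⊤) : (P : Subgroup G) ≤ hyperfocal p (P : Subgroup G) := by
  have hPG : (P : Subgroup G) ≤ commutator G := by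
    intro x hx
    obtain ⟨k, hk⟩ := P.isPGroup' ⟨x, hx⟩
    exact mem_commutator_of_residual_top hres (k := k) (congrArg Subtype.val hk)
  have hsup : (P : Subgroup G) ≤ hyperfocal p (P : Subgroup G) ⊔ ⁅(P : Subgroup G), (P : Subgroup G)⁆ :=
    fun x hx => focal_le_hyperfocal_sup P ⟨hPG hx, hx⟩
  have hle := hyperfocal_le p (P : Subgroup G)
  let K : Subgroup (P : Subgroup G) := (hyperfocal p (P : Subgroup G)).subgroupOf (P : Subgroup G)
  have hKmap : K.map (P : Subgroup G).subtype = hyperfocal p (P : Subgroup G) := by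
    rw [Subgroup.subgroupOf_map_subtype, inf_eq_left.mpr hle]
  have hCmap : (commutator (P : Subgroup G)).map (P : Subgroup G).subtype = ⁅(P : Subgroup G), (P : Subgroup G)⁆ :=
    Subgroup.map_subtype_commutator _
  have htop : K ⊔ frattini (P : Subgroup G) = ⊤ := by
    rw [eq_top_iff]
    intro y _
    have h1 : (y : G) ∈ (K ⊔ commutator (P : Subgroup G)).map (P : Subgroup G).subtype := by
      rw [Subgroup.map_sup, hKmap, hCmap]
      exact hsup y.2
    obtain ⟨y', hy', hyy⟩ := h1
    have h2 : y' = y := Subtype.ext hyy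
    rw [← h2]
    exact (sup_le_sup_left (commutator_le_frattini P.isPGroup') K) hy'
  have hKt : K = ⊤ := Cfsg.Agent.Lib.Core.eq_top_of_sup_eq_top_of_le_frattini le_rfl htop
  intro x hx
  have : (⟨x, hx⟩ : (P : Subgroup G)) ∈ K := by rw [hKt]; trivial
  exact this

theorem residual_residual {G : Type u} [Group G] (p : ℕ) : pResidual p (pResidual p G) = ⊤ := by
  have hle : pResidual p G ≤ (pResidual p (pResidual p G)).map (pResidual p G).subtype := by
    conv_lhs => rw [pResidual]
    rw [Subgroup.closure_le]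
    intro y hy
    have hyK : y ∈ pResidual p G := Subgroup.subset_closure hy
    refine ⟨⟨y, hyK⟩, Subgroup.subset_closure ?_, rfl⟩
    show Nat.Coprime (orderOf (⟨y, hyK⟩ : pResidual p G)) p
    rw [Subgroup.orderOf_mk]
    exact hy
  rw [eq_top_iff]
  intro y _
  obtain ⟨y', hy', hyy⟩ := hle y.2
  have : y' = y := Subtype.ext hyy
  rwa [← this]

/-- **Puig's hyperfocal subgroup theorem**, the essential inclusion. -/
theorem inf_residual_le_hyperfocal {p : ℕ} [Fact p.Prime] : ∀ (n : ℕ) (G : Type u) [Group G] [Finite G] (P : Sylow p G),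
    Nat.card G = n → (P : Subgroup G) ⊓ pResidual p G ≤ hyperfocal p (P : Subgroup G) := by
  intro n
  induction n using Nat.strong_induction_on with
  | _ n ih =>
  intro G _ _ P hn
  by_cases htop : pResidual p G = ⊤
  · exact inf_le_left.trans (le_hyperfocal_of_residual_top P htop)
  set K := pResidual p G with hK
  haveI hKn : K.Normal := pResidual_normal
  obtain ⟨S, hS⟩ := Cfsg.Agent.Lib.Core.sylow_inf_normal p K P
  have hcard : Nat.card K < n := by
    rw [← hn]
    have := Cfsg.Agent.Lib.PGroup.card_lt_card_of_lt (lt_top_iff_ne_top.mpr htop)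
    simpa using this
  have h1 := ih _ hcard K S rfl
  have hKres : pResidual p K = ⊤ := residual_residual p
  rw [hKres, inf_top_eq] at h1
  rintro x ⟨hx1, hx2⟩
  have hxS : (⟨x, hx2⟩ : K) ∈ (S : Subgroup K) := by rw [hS]; exact hx1
  have h2 := h1 hxS
  -- map the hyperfocal subgroup of `S` into that of `P`
  have hmap : (hyperfocal p (S : Subgroup K)).map K.subtype ≤ hyperfocal p (P : Subgroup G) := by
    rw [Subgroup.map_le_iff_le_comap, hyperfocal, Subgroup.closure_le]
    rintro _ ⟨Q, hQ, y, hy, g, hg, hgc, rfl⟩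
    apply Subgroup.subset_closure
    refine ⟨Q.map K.subtype, ?_, (y : G), ⟨y, hy, rfl⟩, (g : G), ?_, ?_, ?_⟩
    · rintro _ ⟨z, hz, rfl⟩
      have := hQ hz
      rw [hS] at this
      exact this
    · apply mem_normalizer_of_conj_mem
      rintro _ ⟨z, hz, rfl⟩
      exact ⟨g * z * g⁻¹, conj_mem_of_mem_normalizer hg hz, rfl⟩
    · rwa [Subgroup.orderOf_coe]
    · rfl
  exact hmap ⟨_, h2, rfl⟩

/-- The hyperfocal subgroup lies in `O^p(G)`. -/
theorem hyperfocal_le_residual {G : Type u} [Group G] [Finite G] {p : ℕ} (P : Subgroup G) :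
    hyperfocal p P ≤ pResidual p G := by
  rw [hyperfocal, Subgroup.closure_le]
  rintro _ ⟨Q, hQ, x, hx, g, hg, hgc, rfl⟩
  have hgp : g ∈ pResidual p G := mem_pResidual_of_coprime hgc
  have e : x⁻¹ * (g⁻¹ * x * g) = (x⁻¹ * g⁻¹ * x) * g := by group
  rw [SetLike.mem_coe, e]
  refine mul_mem ?_ hgp
  have := pResidual_normal.conj_mem _ (inv_mem hgp) x⁻¹
  simpa using this

end Cfsg.Agent.Lib.Transfer
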