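import Cfsg.Agent.Lib.Transfer.Frobenius
import Cfsg.Agent.Lib.Transfer.MaxClass
import Cfsg.Agent.Lib.Huppert.SL23Rec
import Cfsg.Agent.Lib.Coprime.SZ
import Mathlib

/-! Generalized quaternion Sylow `2`-subgroups: normal `2`-complement or an `SL(2,3)`-section. -/

set_option autoImplicit false

namespace Cfsg.Agent.Lib.Transfer

open Subgroup

variable {G : Type*} [Group G]

theorem commute_of_sq_commute {h s : G} (hodd : Odd (orderOf h)) (hc : Commute (h * h) s) :
    Commute h s := by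
  obtain ⟨u, hu⟩ := hodd
  have h1 : h = (h * h) ^ (u + 1) := by
    rw [← pow_two, ← pow_mul]
    have : 2 * (u + 1) = orderOf h + 1 := by omega
    rw [this, pow_succ, pow_orderOf_eq_one, one_mul]
  rw [h1]
  exact hc.pow_left _

theorem odd_orderOf_pow {g : G} (hodd : Odd (orderOf g)) (n : ℕ) : Odd (orderOf (g ^ n)) :=
  Odd.of_dvd_nat hodd (orderOf_pow_dvd n)

/-- An odd-order element normalizing a cyclic `2`-subgroup centralizes it. -/
theorem mem_centralizer_of_cyclic_two [Finite G] {D : Subgroup G} [IsCyclic D]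
    (hD : IsPGroup 2 D) {g : G} (hg : g ∈ normalizer (D : Set G)) (hodd : Odd (orderOf g)) :
    g ∈ centralizer (D : Set G) := by
  classical
  set ψ := D.normalizerMonoidHom ⟨g, hg⟩ with hψ
  have h1 : orderOf ψ ∣ orderOf g := by
    have := orderOf_map_dvd D.normalizerMonoidHom (⟨g, hg⟩ : normalizer (D : Set G))
    rwa [Subgroup.orderOf_mk] at this
  obtain ⟨k, hk⟩ := IsPGroup.iff_card.mp hD
  have h2 : orderOf ψ ∣ Nat.totient (2 ^ k) := by
    rw [← hk, ← IsCyclic.card_mulAut]
    exact orderOf_dvd_natCard ψ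
  have h3 : Nat.totient (2 ^ k) ∣ 2 ^ k := by
    rcases k with _ | k
    · simp
    · rw [Nat.totient_prime_pow_succ Nat.prime_two, pow_succ]; simp
  have h4 : Nat.Coprime (orderOf g) (2 ^ k) :=
    Nat.Coprime.pow_right _ (Nat.coprime_two_right.mpr hodd)
  have h5 : orderOf ψ = 1 := Nat.eq_one_of_dvd_coprimes h4 h1 (h2.trans h3)
  have h6 : ψ = 1 := orderOf_eq_one_iff.mp h5
  rw [mem_centralizer_iff]
  intro d hd
  have h7 := congrArg (fun f : MulAut D => ((f ⟨d, hd⟩ : D) : G)) h6
  have h8 : g * d * g⁻¹ = d := h7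
  have := congrArg (· * g) h8
  simpa using this.symm

theorem card_eq_two_mul (B C : Subgroup G) (h : ∀ s ∈ B, ∀ t ∈ B, s ∉ C → t ∉ C → s * t ∈ C)
    {x : G} (hx : x ∈ B) (hxC : x ∉ C) : Nat.card B = 2 * Nat.card (B ⊓ C : Subgroup G) := by
  have h2 : (C.subgroupOf B).index = 2 := by
    rw [Subgroup.index_eq_two_iff]
    refine ⟨⟨x, hx⟩, fun b => ?_⟩
    by_cases hb : (b : G) ∈ C
    · refine Or.inr ⟨mem_subgroupOf.mpr hb, fun hc => hxC ?_⟩
      have h3 : (b : G) * x ∈ C := hc
      have := C.mul_mem (C.inv_mem hb) h3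
      simpa using this
    · exact Or.inl ⟨h _ b.2 _ hx hb hxC, fun hc => hb hc⟩
  have h3 := (C.subgroupOf B).card_mul_index
  rw [h2] at h3
  have h4 : Nat.card (C.subgroupOf B) = Nat.card (B ⊓ C : Subgroup G) := by
    have : (C.subgroupOf B).map B.subtype = C ⊓ B := Subgroup.subgroupOf_map_subtype _ _
    rw [inf_comm, ← this, Subgroup.card_map_of_injective B.subtype_injective]
  rw [← h3, h4, mul_comm]

theorem conj_step_iter {g t c : G} (hc : g * c * g⁻¹ = c) (ht : g * t * g⁻¹ = t * c) (n : ℕ) :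
    g ^ n * t * (g ^ n)⁻¹ = t * c ^ n := by
  induction n with
  | zero => simp
  | succ n ih =>
    have hcn : g * c ^ n * g⁻¹ = c ^ n := by
      have : g * c ^ n * g⁻¹ = (g * c * g⁻¹) ^ n := by
        rw [conj_pow]
      rw [this, hc]
    calc g ^ (n + 1) * t * (g ^ (n + 1))⁻¹ = g * (g ^ n * t * (g ^ n)⁻¹) * g⁻¹ := by
          rw [pow_succ']; group
      _ = g * (t * c ^ n) * g⁻¹ := by rw [ih]
      _ = (g * t * g⁻¹) * (g * c ^ n * g⁻¹) := by group
      _ = t * c * c ^ n := by rw [ht, hcn]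
      _ = t * c ^ (n + 1) := by rw [pow_succ', mul_assoc]

theorem quat_core [Finite G] (T C : Subgroup G) (hT2 : IsPGroup 2 T) (hCT : C ≤ T) [IsCyclic C]
    (z : G) (hzC : z ∈ C) (hz1 : z ≠ 1) (hzz : z * z = 1)
    (hsq : ∀ t ∈ T, t ∉ C → t * t = z)
    (hinv : ∀ t ∈ T, t ∉ C → ∀ u ∈ C, t * u * t⁻¹ = u⁻¹)
    (hmul : ∀ s ∈ T, ∀ t ∈ T, s ∉ C → t ∉ C → s * t ∈ C)
    (hinvol : ∀ t ∈ T, t * t = 1 → t = 1 ∨ t = z)
    {Q : Subgroup G} (hQT : Q ≤ T) {g : G} (hg : g ∈ normalizer (Q : Set G))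
    (hodd : Odd (orderOf g)) (hgQ : g ∉ centralizer (Q : Set G)) :
    z ∈ Q ∧ Nat.card Q = 8 ∧ ∀ t ∈ Q, t ≠ 1 → t ≠ z → t * t = z := by
  classical
  have hconj : ∀ t ∈ Q, g * t * g⁻¹ ∈ Q := fun t ht => (mem_normalizer_iff.mp hg t).mp ht
  have hQ_not_le : ¬ Q ≤ C := by
    intro hle
    haveI : IsCyclic Q := Subgroup.isCyclic_of_le hle
    exact hgQ (mem_centralizer_of_cyclic_two (hT2.to_le hQT) hg hodd)
  obtain ⟨x, hxQ, hxC⟩ := Set.not_subset.mp hQ_not_le
  have hzQ : z ∈ Q := by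
    rw [← hsq x (hQT hxQ) hxC]
    exact Q.mul_mem hxQ hxQ
  set Q₀ : Subgroup G := Q ⊓ C with hQ₀
  have hcardQ : Nat.card Q = 2 * Nat.card Q₀ :=
    card_eq_two_mul Q C (fun s hs t ht => hmul s (hQT hs) t (hQT ht)) hxQ hxC
  have hgz : g * z * g⁻¹ = z := by
    have h1 := hinvol (g * z * g⁻¹) (hQT (hconj z hzQ)) (by
      have : g * z * g⁻¹ * (g * z * g⁻¹) = g * (z * z) * g⁻¹ := by group
      rw [this, hzz]; group)
    rcases h1 with h1 | h1
    · exfalso
      apply hz1
      have := congrArg (fun s => g⁻¹ * s * g) h1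
      simpa [mul_assoc] using this
    · exact h1
  have hQ₀_move : ∃ u ∈ Q₀, g * u * g⁻¹ ∉ C := by
    by_contra hcon
    push Not at hcon
    have hn : g ∈ normalizer (Q₀ : Set G) :=
      mem_normalizer_of_forall_conj (fun u hu => ⟨hconj u hu.1, hcon u hu⟩)
    haveI : IsCyclic Q₀ := Subgroup.isCyclic_of_le inf_le_right
    have hc0 := mem_centralizer_of_cyclic_two (hT2.to_le (inf_le_left.trans hQT)) hn hodd
    apply hgQ
    rw [mem_centralizer_iff]
    intro t ht
    by_cases htC : t ∈ C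
    · exact (mem_centralizer_iff.mp hc0) t ⟨ht, htC⟩
    · have h1 : g * t * g⁻¹ ∉ C := by
        intro h2
        have h3 : g * t * g⁻¹ ∈ Q₀ := ⟨hconj t ht, h2⟩
        exact htC ((mem_normalizer_iff.mp hn t).mpr h3).2
      have h2 : t⁻¹ * (g * t * g⁻¹) ∈ C :=
        hmul _ (hQT (Q.inv_mem ht)) _ (hQT (hconj t ht)) (fun h => htC (by simpa using C.inv_mem h)) h1
      have h3 : t⁻¹ * (g * t * g⁻¹) ∈ Q₀ := ⟨Q.mul_mem (Q.inv_mem ht) (hconj t ht), h2⟩
      set c := t⁻¹ * (g * t * g⁻¹) with hc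
      have h4 : g * c * g⁻¹ = c := by
        have := (mem_centralizer_iff.mp hc0) c h3
        rw [← this]; group
      have h5 : g * t * g⁻¹ = t * c := by rw [hc]; group
      have h6 := conj_step_iter h4 h5 (orderOf g)
      rw [pow_orderOf_eq_one] at h6
      simp only [one_mul, inv_one, mul_one] at h6
      have h7 : c ^ orderOf g = 1 := by
        have : t * c ^ orderOf g = t * 1 := by rw [← h6, mul_one]
        exact mul_left_cancel this
      obtain ⟨k, hk⟩ := IsPGroup.iff_card.mp hT2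
      have h8 : orderOf c ∣ orderOf g := orderOf_dvd_of_pow_eq_one h7
      have h9 : orderOf c ∣ 2 ^ k := by
        rw [← hk]
        exact Subgroup.orderOf_dvd_natCard T (hQT h3.1)
      have h10 : Nat.Coprime (orderOf g) (2 ^ k) :=
        Nat.Coprime.pow_right _ (Nat.coprime_two_right.mpr hodd)
      have h11 : orderOf c = 1 := Nat.eq_one_of_dvd_coprimes h10 h8 h9
      have h12 : c = 1 := orderOf_eq_one_iff.mp h11
      have h13 : g * t * g⁻¹ = t := by rw [h5, h12, mul_one]
      have := congrArg (· * g) h13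
      simpa using this.symm
  obtain ⟨u, huQ₀, huC⟩ := hQ₀_move
  set S' : Subgroup G := Q₀.map (MulAut.conj g).toMonoidHom with hS'
  have hS'card : Nat.card S' = Nat.card Q₀ :=
    Subgroup.card_map_of_injective (MulAut.conj g).injective
  have hS'Q : ∀ s ∈ S', s ∈ Q := by
    rintro _ ⟨w, hw, rfl⟩
    exact hconj w hw.1
  have hyS' : g * u * g⁻¹ ∈ S' := ⟨u, huQ₀, rfl⟩
  have hS'2 : Nat.card S' = 2 * Nat.card (S' ⊓ C : Subgroup G) :=
    card_eq_two_mul S' C (fun s hs t ht => hmul s (hQT (hS'Q s hs)) t (hQT (hS'Q t ht))) hyS' huC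
  have hCcomm : ∀ a ∈ C, ∀ b ∈ C, a * b = b * a := by
    intro a ha b hb
    have := (IsCyclic.isMulCommutative (α := C)).is_comm.comm ⟨a, ha⟩ ⟨b, hb⟩
    exact congrArg (fun t : C => (t : G)) this
  have hinter : ((S' ⊓ C : Subgroup G) : Set G) ⊆ ({1, z} : Set G) := by
    rintro v ⟨⟨w, hw, rfl⟩, hvC⟩
    have hvv : (MulAut.conj g).toMonoidHom w = g * w * g⁻¹ := rfl
    rw [hvv] at hvC ⊢
    have h1 := hinv _ (hQT (hS'Q _ hyS')) huC _ hvC
    have h2 : g * u * g⁻¹ * (g * w * g⁻¹) = g * w * g⁻¹ * (g * u * g⁻¹) := by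
      have e1 : g * u * g⁻¹ * (g * w * g⁻¹) = g * (u * w) * g⁻¹ := by group
      have e2 : g * w * g⁻¹ * (g * u * g⁻¹) = g * (w * u) * g⁻¹ := by group
      rw [e1, e2, hCcomm u huQ₀.2 w hw.2]
    rw [h2] at h1
    have h3 : g * w * g⁻¹ = (g * w * g⁻¹)⁻¹ := by
      rw [← h1]; group
    have h4 : g * w * g⁻¹ * (g * w * g⁻¹) = 1 := by
      nth_rw 1 [h3]; group
    rcases hinvol _ (hQT (hconj w hw.1)) h4 with h5 | h5
    · exact Or.inl h5
    · exact Or.inr h5
  have hcardle : Nat.card (S' ⊓ C : Subgroup G) ≤ 2 := by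
    rw [← SetLike.coe_sort_coe, Nat.card_coe_set_eq]
    calc ((S' ⊓ C : Subgroup G) : Set G).ncard ≤ ({1, z} : Set G).ncard :=
          Set.ncard_le_ncard hinter (Set.toFinite _)
      _ ≤ 2 := Set.ncard_pair (Ne.symm hz1) |>.le
  have hQ₀le : Nat.card Q₀ ≤ 4 := by omega
  have hu1 : u ≠ 1 := by
    rintro rfl
    apply huC
    simpa using C.one_mem
  have huz : u ≠ z := by
    rintro rfl
    apply huC
    rw [hgz]
    exact hzC
  have hzQ₀ : z ∈ Q₀ := ⟨hzQ, hzC⟩
  have hQ₀ge : 3 ≤ Nat.card Q₀ := by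
    rw [← SetLike.coe_sort_coe, Nat.card_coe_set_eq]
    have hsub : ({1, z, u} : Set G) ⊆ (Q₀ : Set G) := by
      rintro v (rfl | rfl | rfl)
      · exact Q₀.one_mem
      · exact hzQ₀
      · exact huQ₀
    calc 3 = ({1, z, u} : Set G).ncard := by
          rw [Set.ncard_eq_toFinset_card']
          simp [Set.toFinset_insert, Finset.card_insert_of_notMem, hz1.symm, hu1.symm, huz.symm]
      _ ≤ _ := Set.ncard_le_ncard hsub (Set.toFinite _)
  have hQ₀4 : Nat.card Q₀ = 4 := by
    obtain ⟨k, hk⟩ := IsPGroup.iff_card.mp (hT2.to_le (inf_le_left.trans hQT) : IsPGroup 2 Q₀)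
    rw [hk] at hQ₀le hQ₀ge ⊢
    rcases k with _ | _ | _ | k
    · omega
    · omega
    · norm_num
    · have : 2 ^ (k + 1 + 1 + 1) = 8 * 2 ^ k := by ring
      have h2 := Nat.one_le_two_pow (n := k)
      omega
  refine ⟨hzQ, by omega, ?_⟩
  intro t ht ht1 htz
  by_cases htC : t ∈ C
  · have h1 : orderOf t ∣ 4 := by
      rw [← hQ₀4]
      exact Subgroup.orderOf_dvd_natCard Q₀ ⟨ht, htC⟩
    have h2 : t ^ 4 = 1 := orderOf_dvd_iff_pow_eq_one.mp h1
    have h3 : (t * t) * (t * t) = 1 := by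
      rw [← h2]; simp only [pow_succ, pow_zero, one_mul, mul_assoc]
    rcases hinvol _ (hQT (Q.mul_mem ht ht)) h3 with h4 | h4
    · rcases hinvol _ (hQT ht) h4 with h5 | h5
      · exact absurd h5 ht1
      · exact absurd h5 htz
    · exact h4
  · exact hsq t (hQT ht) htC

/-- An odd-order automorphism of `Q₈`: its cube is trivial. -/
theorem q8_odd_cube [Finite G] {Q : Subgroup G} {z : G} (hzQ : z ∈ Q) (hz1 : z ≠ 1)
    (hzz : z * z = 1) (hQ8 : Nat.card Q = 8) (hsq : ∀ t ∈ Q, t ≠ 1 → t ≠ z → t * t = z)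
    {g : G} (hg : g ∈ normalizer (Q : Set G)) (hodd : Odd (orderOf g)) :
    g * z * g⁻¹ = z ∧ g ^ 3 ∈ centralizer (Q : Set G) := by
  classical
  have hconj : ∀ t ∈ Q, g * t * g⁻¹ ∈ Q := fun t ht => (mem_normalizer_iff.mp hg t).mp ht
  have hconjn : ∀ (n : ℕ), ∀ t ∈ Q, g ^ n * t * (g ^ n)⁻¹ ∈ Q := by
    intro n
    induction n with
    | zero => simp
    | succ n ih =>
      intro t ht
      have := hconj _ (ih t ht)
      have e : g ^ (n + 1) * t * (g ^ (n + 1))⁻¹ = g * (g ^ n * t * (g ^ n)⁻¹) * g⁻¹ := by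
        rw [pow_succ']; group
      rw [e]; exact this
  have hne_conj : ∀ (n : ℕ) (x y : G), x ≠ y → g ^ n * x * (g ^ n)⁻¹ ≠ g ^ n * y * (g ^ n)⁻¹ := by
    intro n x y hxy h
    apply hxy
    have := congrArg (fun s => (g ^ n)⁻¹ * s * g ^ n) h
    simpa [mul_assoc] using this
  have hgzn : ∀ n : ℕ, g ^ n * z * (g ^ n)⁻¹ = z := by
    intro n
    by_contra hne
    have h1 : g ^ n * z * (g ^ n)⁻¹ ≠ 1 := by
      have := hne_conj n z 1 hz1
      simpa using this
    have h2 := hsq _ (hconjn n z hzQ) h1 hne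
    have h3 : g ^ n * z * (g ^ n)⁻¹ * (g ^ n * z * (g ^ n)⁻¹) = g ^ n * (z * z) * (g ^ n)⁻¹ := by
      group
    rw [h3, hzz] at h2
    apply hz1
    rw [← h2]; group
  have hgz : g * z * g⁻¹ = z := by simpa using hgzn 1
  refine ⟨hgz, ?_⟩
  have hone : Commute (g ^ 3) 1 := Commute.one_right _
  have hzcomm : Commute (g ^ 3) z := by
    have := hgzn 3
    have h2 := congrArg (· * g ^ 3) this
    simp only [inv_mul_cancel_right] at h2
    exact h2
  have main : ∀ t ∈ Q, t ≠ 1 → t ≠ z → Commute (g ^ 3) t := by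
    intro t ht ht1 htz
    set s : ℕ → G := fun n => g ^ n * t * (g ^ n)⁻¹ with hs
    have hsQ : ∀ n, s n ∈ Q := fun n => hconjn n t ht
    have hs1 : ∀ n, s n ≠ 1 := by
      intro n h
      apply hne_conj n t 1 ht1
      have h' : g ^ n * t * (g ^ n)⁻¹ = 1 := h
      rw [h']; group
    have hsz : ∀ n, s n ≠ z := by
      intro n h
      have := hne_conj n t z htz
      apply this
      rw [hgzn n]
      exact h
    have hss : ∀ n, s n * s n = z := fun n => hsq _ (hsQ n) (hs1 n) (hsz n)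
    have hzs : ∀ n, z * s n ≠ 1 := by
      intro n h
      apply hsz n
      have h2 : s n = z⁻¹ := eq_inv_of_mul_eq_one_right h
      have h3 : z⁻¹ = z := inv_eq_of_mul_eq_one_left hzz
      rw [h2, h3]
    -- the pigeonhole
    let f : Fin 4 × Bool → Q := fun x =>
      if x.2 then ⟨s x.1, hsQ _⟩ else ⟨z * s x.1, Q.mul_mem hzQ (hsQ _)⟩
    have hf1 : ∀ x, f x ≠ 1 := by
      rintro ⟨a, b⟩ h
      cases b
      · exact hzs a (congrArg (fun t : Q => (t : G)) h)
      · exact hs1 a (congrArg (fun t : Q => (t : G)) h)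
    have hfni : ¬ Function.Injective f := by
      intro hinj
      have hcard : Nat.card (Fin 4 × Bool) = Nat.card Q := by
        rw [hQ8]; simp
      have hbij := (Nat.bijective_iff_injective_and_card f).mpr ⟨hinj, hcard⟩
      obtain ⟨x, hx⟩ := hbij.2 1
      exact hf1 x hx
    -- the key step
    have hsn : ∀ a c : ℕ, s (a + c) = g ^ c * s a * (g ^ c)⁻¹ := by
      intro a c
      simp only [hs]
      rw [add_comm, pow_add]; group
    have key0 : ∀ a c : ℕ, (s (a + c) = s a ∨ s (a + c) = z * s a) → Commute (g ^ c) t := by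
      intro a c h
      have h1 : Commute (g ^ c) (s a) := by
        rcases h with h | h
        · rw [hsn] at h
          have h2 := congrArg (· * g ^ c) h
          simp only [inv_mul_cancel_right] at h2
          exact h2
        · apply commute_of_sq_commute (odd_orderOf_pow hodd c)
          have hinvs : z * s a = (s a)⁻¹ := by
            apply eq_inv_of_mul_eq_one_left
            rw [mul_assoc, hss, hzz]
          rw [hinvs, hsn] at h
          have h2 : g ^ c * g ^ c * s a * (g ^ c * g ^ c)⁻¹ = s a := by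
            have e : g ^ c * g ^ c * s a * (g ^ c * g ^ c)⁻¹
                = g ^ c * (g ^ c * s a * (g ^ c)⁻¹) * (g ^ c)⁻¹ := by group
            rw [e, h]
            have e2 : g ^ c * (s a)⁻¹ * (g ^ c)⁻¹ = (g ^ c * s a * (g ^ c)⁻¹)⁻¹ := by group
            rw [e2, h, inv_inv]
          have h3 := congrArg (· * (g ^ c * g ^ c)) h2
          simp only [inv_mul_cancel_right] at h3
          exact h3
      -- transfer to `t`
      have h4 : g ^ c * s a = s a * g ^ c := h1
      have h5 : g ^ c * t = t * g ^ c := by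
        simp only [hs] at h4
        have e : g ^ c * g ^ a = g ^ a * g ^ c := (Commute.pow_pow_self g c a)
        have h6 : g ^ a * (g ^ c * t) * (g ^ a)⁻¹ = g ^ a * (t * g ^ c) * (g ^ a)⁻¹ := by
          calc g ^ a * (g ^ c * t) * (g ^ a)⁻¹ = (g ^ a * g ^ c) * t * (g ^ a)⁻¹ := by group
            _ = (g ^ c * g ^ a) * t * (g ^ a)⁻¹ := by rw [e]
            _ = g ^ c * (g ^ a * t * (g ^ a)⁻¹) := by group
            _ = (g ^ a * t * (g ^ a)⁻¹) * g ^ c := h4
            _ = g ^ a * t * (g ^ a)⁻¹ * g ^ c * (g ^ a * (g ^ a)⁻¹) := by simp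
            _ = g ^ a * t * ((g ^ a)⁻¹ * g ^ c * g ^ a) * (g ^ a)⁻¹ := by group
            _ = g ^ a * t * g ^ c * (g ^ a)⁻¹ := by
                have : (g ^ a)⁻¹ * g ^ c * g ^ a = g ^ c := by
                  rw [mul_assoc, e]; group
                rw [this]
            _ = _ := by group
        have h7 := mul_right_cancel h6
        exact mul_left_cancel h7
      exact h5
    have key : ∀ a c : ℕ, c ≠ 0 → c ≤ 3 → (s (a + c) = s a ∨ s (a + c) = z * s a) →
        Commute (g ^ 3) t := by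
      intro a c hc0 hc3 h
      have h1 := key0 a c h
      interval_cases c
      · exact absurd rfl hc0
      · simp only [pow_one] at h1
        exact h1.pow_left 3
      · have h2 : Commute (g * g) t := by
          rw [← pow_two]; exact h1
        exact (commute_of_sq_commute hodd h2).pow_left 3
      · exact h1
    have key2 : ∀ a b : ℕ, a < b → b ≤ 3 → (s b = s a ∨ s b = z * s a) → Commute (g ^ 3) t := by
      intro a b hab hb h
      obtain ⟨c, rfl⟩ : ∃ c, b = a + c := ⟨b - a, by omega⟩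
      exact key a c (by omega) (by omega) h
    have hzz' : ∀ n, z * (z * s n) = s n := by
      intro n
      rw [← mul_assoc, hzz, one_mul]
    rw [Function.Injective] at hfni
    push Not at hfni
    obtain ⟨⟨a, b⟩, ⟨a', b'⟩, hxy, hne⟩ := hfni
    have hval : (f (a, b) : G) = f (a', b') := congrArg (fun t : Q => (t : G)) hxy
    have hcases : s a' = s a ∨ s a' = z * s a := by
      cases b <;> cases b' <;> simp only [f, if_true, if_false, Bool.false_eq_true] at hval
      · left
        exact (mul_left_cancel hval).symm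
      · right
        exact hval.symm
      · right
        rw [hval, hzz']
      · left
        exact hval.symm
    have hcases' : s a = s a' ∨ s a = z * s a' := by
      rcases hcases with h | h
      · exact Or.inl h.symm
      · right
        rw [h, hzz']
    rcases lt_trichotomy (a : ℕ) (a' : ℕ) with hlt | heq | hgt
    · exact key2 a a' hlt (by omega) hcases
    · exfalso
      have haa : a = a' := Fin.ext heq
      subst haa
      have hbb : b ≠ b' := by
        intro h
        apply hne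
        rw [h]
      cases b <;> cases b' <;> simp only [f, if_true, if_false, Bool.false_eq_true] at hval
      · exact hbb rfl
      · exact hz1 (mul_eq_right.mp hval)
      · exact hz1 (mul_eq_right.mp hval.symm)
      · exact hbb rfl
    · exact key2 a' a hgt (by omega) hcases'
  rw [mem_centralizer_iff]
  intro t ht
  by_cases ht1 : t = 1
  · rw [ht1, one_mul, mul_one]
  by_cases htz : t = z
  · rw [htz]; exact hzcomm.eq.symm
  · exact (main t ht ht1 htz).eq.symm

theorem hconj_aux {Q : Subgroup G} {g : G} (hg : g ∈ normalizer (Q : Set G)) (t : G) (ht : t ∈ Q) :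
    g * t * g⁻¹ ∈ Q := (mem_normalizer_iff.mp hg t).mp ht

/-- The `SL(2,3)` section. -/
theorem sl23_section [Finite G] {Q : Subgroup G} {z : G} (hzQ : z ∈ Q) (hz1 : z ≠ 1)
    (hzz : z * z = 1) (hQ8 : Nat.card Q = 8) (hsq : ∀ t ∈ Q, t ≠ 1 → t ≠ z → t * t = z)
    {g : G} (hg : g ∈ normalizer (Q : Set G)) (hodd : Odd (orderOf g))
    (hgQ : g ∉ centralizer (Q : Set G)) :
    ∃ (H K : Subgroup G) (_ : (K.subgroupOf H).Normal),
      Nonempty ((H ⧸ K.subgroupOf H) ≃* Matrix.SpecialLinearGroup (Fin 2) (ZMod 3)) := by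
  classical
  obtain ⟨hgz, hg3⟩ := q8_odd_cube hzQ hz1 hzz hQ8 hsq hg hodd
  set m := orderOf g with hm
  set H : Subgroup G := Q ⊔ zpowers g with hH
  set K : Subgroup G := zpowers (g ^ 3) with hK
  have hgH : g ∈ H := Subgroup.mem_sup_right (mem_zpowers g)
  have hQH : Q ≤ H := le_sup_left
  have hZH : zpowers g ≤ H := le_sup_right
  have hKH : K ≤ H := (zpowers_le).mpr (H.pow_mem hgH 3)
  have hHN : H ≤ normalizer (Q : Set G) := sup_le Subgroup.le_normalizer (zpowers_le.mpr hg)
  -- `g³` is central in `H`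
  have hHc : H ≤ centralizer ({g ^ 3} : Set G) := by
    apply sup_le
    · intro t ht
      rw [Subgroup.mem_centralizer_singleton_iff]
      exact (mem_centralizer_iff.mp hg3 t ht)
    · rw [zpowers_le, Subgroup.mem_centralizer_singleton_iff]
      exact (Commute.pow_self g 3).symm.eq
  have hKcomm : ∀ k ∈ K, ∀ h ∈ H, h * k = k * h := by
    intro k hk h hh
    obtain ⟨n, rfl⟩ := mem_zpowers_iff.mp hk
    have h1 : Commute h (g ^ 3) := by
      have := hHc hh
      rw [Subgroup.mem_centralizer_singleton_iff] at this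
      exact this
    exact (h1.zpow_right n).eq
  haveI hKn : (K.subgroupOf H).Normal := by
    constructor
    intro n hn h
    have h1 : (n : G) ∈ K := hn
    rw [Subgroup.mem_subgroupOf]
    have h2 : (h : G) * n * (h : G)⁻¹ = n := by
      rw [hKcomm _ h1 _ h.2]; group
    simp only [Subgroup.coe_mul, Subgroup.coe_inv]
    rw [h2]; exact h1
  -- `Q ∩ K = 1`
  have hmo : Nat.Coprime m 8 := by
    have : Nat.Coprime m (2 ^ 3) := Nat.Coprime.pow_right _ (Nat.coprime_two_right.mpr hodd)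
    simpa using this
  have hQK : ∀ t ∈ Q, t ∈ K → t = 1 := by
    intro t htQ htK
    have h1 : orderOf t ∣ 8 := by
      rw [← hQ8]; exact Subgroup.orderOf_dvd_natCard Q htQ
    have h2 : orderOf t ∣ m := by
      have h3 : orderOf t ∣ Nat.card K := Subgroup.orderOf_dvd_natCard K htK
      rw [Nat.card_zpowers] at h3
      exact h3.trans (orderOf_pow_dvd 3)
    exact orderOf_eq_one_iff.mp (Nat.eq_one_of_dvd_coprimes hmo h2 h1)
  -- `3 ∣ m`
  have h3m : 3 ∣ m := by
    by_contra hn
    have hco : Nat.Coprime m 3 :=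
      ((Nat.Prime.coprime_iff_not_dvd Nat.prime_three).mpr hn).symm
    have h1 : orderOf (g ^ 3) = m := Nat.Coprime.orderOf_pow hco
    have h2 : zpowers (g ^ 3) = zpowers g := by
      apply Subgroup.eq_of_le_of_card_ge
      · exact zpowers_le.mpr (Subgroup.pow_mem _ (mem_zpowers g) 3)
      · rw [Nat.card_zpowers, Nat.card_zpowers, h1]
    have h4 : g ∈ zpowers (g ^ 3) := by rw [h2]; exact mem_zpowers g
    obtain ⟨n, hn⟩ := mem_zpowers_iff.mp h4
    apply hgQ
    rw [← hn]
    exact Subgroup.zpow_mem _ hg3 n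
  obtain ⟨m', hm'⟩ := h3m
  have hmpos : 0 < m := by
    rcases hodd with ⟨u, hu⟩
    omega
  have hm'pos : 0 < m' := by
    rcases Nat.eq_zero_or_pos m' with h | h
    · rw [h] at hm'; omega
    · exact h
  have hordK : orderOf (g ^ 3) = m' := by
    rw [orderOf_pow' _ (by norm_num), ← hm, hm', Nat.gcd_eq_right (dvd_mul_right 3 m')]
    exact Nat.mul_div_cancel_left _ (by norm_num)
  -- the order of `H`
  have hQbn : (Q.subgroupOf H).Normal := Subgroup.normal_subgroupOf_of_le_normalizer hHN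
  have hcompl : (Q.subgroupOf H).IsComplement' ((zpowers g).subgroupOf H) := by
    apply Subgroup.isComplement'_of_disjoint_and_mul_eq_univ
    · rw [Subgroup.disjoint_def]
      intro t h1 h2
      have h3 : (t : G) ∈ Q := h1
      have h4 : (t : G) ∈ zpowers g := h2
      have h5 : orderOf (t : G) ∣ 8 := by
        rw [← hQ8]; exact Subgroup.orderOf_dvd_natCard Q h3
      have h6 : orderOf (t : G) ∣ m := by
        have h7 := Subgroup.orderOf_dvd_natCard _ h4
        rwa [Nat.card_zpowers] at h7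
      have h8 := orderOf_eq_one_iff.mp (Nat.eq_one_of_dvd_coprimes hmo h6 h5)
      exact Subtype.ext h8
    · rw [← Subgroup.normal_mul]
      have : Q.subgroupOf H ⊔ (zpowers g).subgroupOf H = ⊤ := by
        rw [eq_top_iff]
        rintro ⟨t, ht⟩ -
        suffices hh : t ∈ (Q.subgroupOf H ⊔ (zpowers g).subgroupOf H).map H.subtype by
          obtain ⟨y, hy, rfl⟩ := hh
          exact hy
        have hle : H ≤ (Q.subgroupOf H ⊔ (zpowers g).subgroupOf H).map H.subtype := by
          apply sup_le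
          · intro q hq
            exact ⟨⟨q, hQH hq⟩, Subgroup.mem_sup_left hq, rfl⟩
          · intro q hq
            exact ⟨⟨q, hZH hq⟩, Subgroup.mem_sup_right hq, rfl⟩
        exact hle ht
      rw [this]; rfl
  have hcardH : Nat.card H = 8 * m := by
    have h1 := hcompl.card_mul_card
    rw [← h1]
    congr 1
    · rw [← hQ8]
      exact Nat.card_congr (Subgroup.subgroupOfEquivOfLe hQH).toEquiv
    · rw [hm, ← Nat.card_zpowers]
      exact Nat.card_congr (Subgroup.subgroupOfEquivOfLe hZH).toEquiv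
  have hcardKb : Nat.card (K.subgroupOf H) = m' := by
    rw [← hordK, ← Nat.card_zpowers]
    exact Nat.card_congr (Subgroup.subgroupOfEquivOfLe hKH).toEquiv
  have hquot : Nat.card (H ⧸ K.subgroupOf H) = 24 := by
    have h1 := (K.subgroupOf H).card_mul_index
    rw [hcardKb, hcardH, hm'] at h1
    have h2 : m' * (K.subgroupOf H).index = m' * 24 := by rw [h1]; ring
    have h3 := Nat.eq_of_mul_eq_mul_left hm'pos h2
    exact h3
  -- set up the recognition
  let π : H →* H ⧸ K.subgroupOf H := QuotientGroup.mk' (K.subgroupOf H)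
  have hπeq : ∀ x y : H, (x : G) ∈ Q → (y : G) ∈ Q → π x = π y → x = y := by
    intro x y hx hy h
    have h1 : x⁻¹ * y ∈ K.subgroupOf H := QuotientGroup.eq.mp h
    have h2 : ((x⁻¹ * y : H) : G) ∈ K := h1
    have h3 : ((x⁻¹ * y : H) : G) ∈ Q := Q.mul_mem (Q.inv_mem hx) hy
    have h4 := hQK _ h3 h2
    have h5 : x⁻¹ * y = 1 := Subtype.ext h4
    exact (inv_mul_eq_one.mp h5)
  set Qt : Subgroup (H ⧸ K.subgroupOf H) := (Q.subgroupOf H).map π with hQt
  have hQtn : Qt.Normal := Subgroup.Normal.map hQbn π (QuotientGroup.mk'_surjective _)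
  have hQt8 : Nat.card Qt = 8 := by
    have hbot : (Q.subgroupOf H) ⊓ (K.subgroupOf H) = ⊥ := by
      rw [eq_bot_iff]
      rintro t ⟨h1, h2⟩
      exact Subgroup.mem_bot.mpr (Subtype.ext (hQK _ h1 h2))
    rw [hQt, Cfsg.Agent.Lib.Coprime.card_map_mk_of_inf_eq_bot hbot, ← hQ8]
    exact Nat.card_congr (Subgroup.subgroupOfEquivOfLe hQH).toEquiv
  have hzH : z ∈ H := hQH hzQ
  -- the moved element
  obtain ⟨a, haQ, ham⟩ : ∃ a ∈ Q, g * a * g⁻¹ ≠ a := by
    by_contra hcon
    push Not at hcon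
    apply hgQ
    rw [mem_centralizer_iff]
    intro t ht
    have := congrArg (· * g) (hcon t ht)
    simpa using this.symm
  have haH : a ∈ H := hQH haQ
  have ha1 : a ≠ 1 := by
    rintro rfl
    apply ham; group
  have haz : a ≠ z := by
    rintro rfl
    exact ham hgz
  have hinvz : z * a = a⁻¹ := by
    have h1 := hsq a haQ ha1 haz
    apply eq_inv_of_mul_eq_one_left
    rw [mul_assoc, h1, hzz]
  have ham2 : g * a * g⁻¹ ≠ z * a := by
    intro h
    rw [hinvz] at h
    apply ham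
    have h1 : Commute (g * g) a := by
      have h2 : g * g * a * (g * g)⁻¹ = a := by
        have e : g * g * a * (g * g)⁻¹ = g * (g * a * g⁻¹) * g⁻¹ := by group
        rw [e, h]
        have e2 : g * a⁻¹ * g⁻¹ = (g * a * g⁻¹)⁻¹ := by group
        rw [e2, h, inv_inv]
      exact mul_inv_eq_iff_eq_mul.mp h2
    have h4 := commute_of_sq_commute hodd h1
    have h5 : g * a = a * g := h4
    rw [h5]; group
  have hgK : g ^ 3 ∈ K := mem_zpowers _
  obtain ⟨e⟩ := Cfsg.Agent.Lib.Huppert.iso_sl23_of_structure (H := H ⧸ K.subgroupOf H)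
    (z := π ⟨z, hzH⟩) (c := π ⟨g, hgH⟩) (a := π ⟨a, haH⟩) hquot Qt hQtn hQt8
    ⟨⟨z, hzH⟩, hzQ, rfl⟩
    (fun h => hz1 (by
      have h1 : π ⟨z, hzH⟩ = π 1 := by rw [h, map_one]
      have := hπeq _ _ hzQ Q.one_mem h1
      exact congrArg Subtype.val this))
    (by
      rw [← map_mul]
      have : (⟨z, hzH⟩ : H) * ⟨z, hzH⟩ = 1 := Subtype.ext hzz
      rw [this, map_one])
    (by
      rintro _ ⟨t, ht, rfl⟩ ht1 htz
      have ht' : (t : G) ∈ Q := ht
      have h1 : (t : G) ≠ 1 := by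
        intro h
        apply ht1
        have : t = 1 := Subtype.ext h
        rw [this, map_one]
      have h2 : (t : G) ≠ z := by
        intro h
        apply htz
        have : t = ⟨z, hzH⟩ := Subtype.ext h
        rw [this]
      rw [← map_mul]
      have : t * t = ⟨z, hzH⟩ := Subtype.ext (hsq _ ht' h1 h2)
      rw [this])
    (by
      rw [← map_pow]
      have h1 : (π ((⟨g, hgH⟩ : H) ^ 3) : H ⧸ K.subgroupOf H) = 1 := by
        have : ((⟨g, hgH⟩ : H) ^ 3) ∈ K.subgroupOf H := by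
          rw [Subgroup.mem_subgroupOf]
          exact hgK
        exact (QuotientGroup.eq_one_iff _).mpr this
      exact h1)
    (fun h => hgQ (by
      have h1 : (⟨g, hgH⟩ : H) ∈ K.subgroupOf H := (QuotientGroup.eq_one_iff _).mp h
      have h2 : g ∈ K := h1
      obtain ⟨n, hn⟩ := mem_zpowers_iff.mp h2
      rw [← hn]
      exact Subgroup.zpow_mem _ hg3 n))
    ⟨⟨a, haH⟩, haQ, rfl⟩
    (fun h => ha1 (by
      have h1 : π ⟨a, haH⟩ = π 1 := by rw [h, map_one]
      have := hπeq _ _ haQ Q.one_mem h1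
      exact congrArg Subtype.val this))
    (fun h => haz (by
      have := hπeq _ _ haQ hzQ h
      exact congrArg Subtype.val this))
    (fun h => ham (by
      rw [← map_inv, ← map_mul, ← map_mul] at h
      have := hπeq _ _ (by
        show g * a * g⁻¹ ∈ Q
        exact hconj_aux hg a haQ) haQ h
      exact congrArg Subtype.val this))
    (fun h => ham2 (by
      rw [← map_inv, ← map_mul, ← map_mul, ← map_mul] at h
      have := hπeq _ _ (by
        show g * a * g⁻¹ ∈ Q
        exact hconj_aux hg a haQ) (by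
        show z * a ∈ Q
        exact Q.mul_mem hzQ haQ) h
      exact congrArg Subtype.val this))
  exact ⟨H, K, hKn, ⟨e⟩⟩

section Model

open QuaternionGroup

theorem quat_an_ne_one (N : ℕ) [NeZero N] : (a (N : ZMod (2 * N)) : QuaternionGroup N) ≠ 1 := by
  intro h
  rw [one_def] at h
  have h1 : (N : ZMod (2 * N)) = 0 := a.inj h
  rw [ZMod.natCast_eq_zero_iff] at h1
  have h2 := Nat.le_of_dvd (Nat.pos_of_ne_zero (NeZero.ne N)) h1
  have h3 := Nat.pos_of_ne_zero (NeZero.ne N)
  omega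

theorem quat_an_sq (N : ℕ) : (a (N : ZMod (2 * N)) : QuaternionGroup N) * a (N : ZMod (2 * N)) = 1 := by
  rw [a_mul_a, one_def]
  congr 1
  have : (N : ZMod (2 * N)) + N = ((2 * N : ℕ) : ZMod (2 * N)) := by
    push_cast; ring
  rw [this, ZMod.natCast_self]

theorem quat_invol (N : ℕ) [NeZero N] (t : QuaternionGroup N) (ht : t * t = 1) :
    t = 1 ∨ t = a (N : ZMod (2 * N)) := by
  cases t with
  | a j =>
    rw [a_mul_a, one_def] at ht
    have h1 : j + j = 0 := a.inj ht
    haveI : NeZero (2 * N) := ⟨by have := NeZero.ne N; omega⟩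
    have h2 : ((j.val + j.val : ℕ) : ZMod (2 * N)) = 0 := by
      push_cast
      rw [ZMod.natCast_zmod_val]
      exact h1
    rw [ZMod.natCast_eq_zero_iff] at h2
    have hlt : j.val < 2 * N := ZMod.val_lt j
    have hpos := Nat.pos_of_ne_zero (NeZero.ne N)
    obtain ⟨k, hk⟩ := h2
    have hk2 : j.val = N * k := by nlinarith
    have hk3 : k < 2 := by
      by_contra hge
      push Not at hge
      have : N * 2 ≤ N * k := Nat.mul_le_mul_left _ hge
      omega
    interval_cases k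
    · left
      rw [one_def]
      congr 1
      rw [← ZMod.natCast_zmod_val j, show j.val = 0 by omega]
      simp
    · right
      congr 1
      rw [← ZMod.natCast_zmod_val j, show j.val = N by omega]
  | xa i =>
    rw [xa_mul_xa] at ht
    exfalso
    apply quat_an_ne_one N
    rw [← ht]
    congr 1
    ring

end Model

/-- The final dichotomy. -/
theorem quaternion_sylow {G : Type*} [Group G] [Finite G] (T : Sylow 2 G) (n : ℕ) (_hn : 1 ≤ n)
    (hT : Nonempty ((T : Subgroup G) ≃* QuaternionGroup (2 ^ n))) :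
    Cfsg.HasNormalPComplement 2 G ∨ ∃ (H K : Subgroup G) (_ : (K.subgroupOf H).Normal),
      Nonempty ((H ⧸ K.subgroupOf H) ≃* Matrix.SpecialLinearGroup (Fin 2) (ZMod 3)) := by
  classical
  obtain ⟨e⟩ := hT
  by_cases hF : FrobeniusHyp 2 (T : Subgroup G)
  · left
    obtain ⟨N, hN, hc⟩ := frobenius T hF
    exact ⟨T, N, hN, hc⟩
  right
  unfold FrobeniusHyp at hF
  push Not at hF
  obtain ⟨Q, hQT, g, hg, hco, hgQ⟩ := hF
  have hodd : Odd (orderOf g) := Nat.coprime_two_right.mp hco
  set N : ℕ := 2 ^ n with hN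
  haveI : NeZero N := ⟨by positivity⟩
  haveI : NeZero (2 * N) := ⟨by have := NeZero.ne N; omega⟩
  let A1 : QuaternionGroup N := QuaternionGroup.a 1
  let AN : QuaternionGroup N := QuaternionGroup.a (N : ZMod (2 * N))
  let x₀ : G := ((e.symm A1 : T) : G)
  let z : G := ((e.symm AN : T) : G)
  set C : Subgroup G := zpowers x₀ with hC
  have hx₀T : x₀ ∈ (T : Subgroup G) := (e.symm A1).2
  have hCT : C ≤ (T : Subgroup G) := zpowers_le.mpr hx₀T
  have hform : ∀ t : QuaternionGroup N, (∃ j, t = QuaternionGroup.a j) ∨ (∃ i, t = QuaternionGroup.xa i) := by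
    intro t
    cases t with
    | a j => exact Or.inl ⟨j, rfl⟩
    | xa i => exact Or.inr ⟨i, rfl⟩
  have hCiff : ∀ t (ht : t ∈ (T : Subgroup G)), t ∈ C ↔ ∃ j, e ⟨t, ht⟩ = QuaternionGroup.a j := by
    intro t ht
    constructor
    · intro htC
      obtain ⟨k, rfl⟩ := (mem_powers_iff_mem_zpowers.mpr htC)
      refine ⟨(k : ZMod (2 * N)), ?_⟩
      have h1 : (⟨x₀ ^ k, ht⟩ : (T : Subgroup G)) = (e.symm A1) ^ k := Subtype.ext (by simp [x₀])
      rw [h1, map_pow, MulEquiv.apply_symm_apply]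
      exact QuaternionGroup.a_one_pow k
    · rintro ⟨j, hj⟩
      have h1 : QuaternionGroup.a j = A1 ^ j.val := by
        rw [QuaternionGroup.a_one_pow, ZMod.natCast_zmod_val]
      have h2 : (⟨t, ht⟩ : (T : Subgroup G)) = (e.symm A1) ^ j.val := by
        apply e.injective
        rw [hj, h1, map_pow, MulEquiv.apply_symm_apply]
      have h3 : t = x₀ ^ j.val := by
        have := congrArg (fun s : (T : Subgroup G) => (s : G)) h2
        simpa [x₀] using this
      rw [h3]
      exact Subgroup.pow_mem _ (mem_zpowers x₀) _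
  have hnotC : ∀ t (ht : t ∈ (T : Subgroup G)), t ∉ C → ∃ i, e ⟨t, ht⟩ = QuaternionGroup.xa i := by
    intro t ht htC
    rcases hform (e ⟨t, ht⟩) with h | h
    · exact absurd ((hCiff t ht).mpr h) htC
    · exact h
  have hzT : z ∈ (T : Subgroup G) := (e.symm AN).2
  have hez : e ⟨z, hzT⟩ = AN := by
    have : (⟨z, hzT⟩ : (T : Subgroup G)) = e.symm AN := rfl
    rw [this, MulEquiv.apply_symm_apply]
  have hmulT : ∀ (s t : G) (hs : s ∈ (T : Subgroup G)) (ht : t ∈ (T : Subgroup G)),
      e ⟨s * t, (T : Subgroup G).mul_mem hs ht⟩ = e ⟨s, hs⟩ * e ⟨t, ht⟩ := by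
    intro s t hs ht
    rw [← map_mul]
    rfl
  have hextT : ∀ (s t : G) (hs : s ∈ (T : Subgroup G)) (ht : t ∈ (T : Subgroup G)),
      e ⟨s, hs⟩ = e ⟨t, ht⟩ → s = t := by
    intro s t hs ht h
    have := e.injective h
    exact congrArg Subtype.val this
  have he1 : e ⟨1, (T : Subgroup G).one_mem⟩ = 1 := by
    have : (⟨1, (T : Subgroup G).one_mem⟩ : (T : Subgroup G)) = 1 := rfl
    rw [this, map_one]
  have hz1 : z ≠ 1 := by
    intro h
    have h1 : e ⟨z, hzT⟩ = e ⟨1, (T : Subgroup G).one_mem⟩ := by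
      congr 2
    rw [hez, he1] at h1
    exact quat_an_ne_one N h1
  have hzz : z * z = 1 := by
    apply hextT _ _ ((T : Subgroup G).mul_mem hzT hzT) (T : Subgroup G).one_mem
    rw [hmulT z z hzT hzT, hez, he1]
    exact quat_an_sq N
  have hzC : z ∈ C := (hCiff z hzT).mpr ⟨(N : ZMod (2 * N)), hez⟩
  have hsq : ∀ t ∈ (T : Subgroup G), t ∉ C → t * t = z := by
    intro t ht htC
    obtain ⟨i, hi⟩ := hnotC t ht htC
    apply hextT _ _ ((T : Subgroup G).mul_mem ht ht) hzT
    rw [hmulT t t ht ht, hi, hez, QuaternionGroup.xa_mul_xa]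
    congr 1
    ring
  have hinv : ∀ t ∈ (T : Subgroup G), t ∉ C → ∀ u ∈ C, t * u * t⁻¹ = u⁻¹ := by
    intro t ht htC u hu
    obtain ⟨i, hi⟩ := hnotC t ht htC
    obtain ⟨j, hj⟩ := (hCiff u (hCT hu)).mp hu
    have h1 : u * (t * u) = t := by
      apply hextT _ _ ((T : Subgroup G).mul_mem (hCT hu) ((T : Subgroup G).mul_mem ht (hCT hu))) ht
      rw [hmulT u (t * u) (hCT hu) ((T : Subgroup G).mul_mem ht (hCT hu)), hmulT t u ht (hCT hu), hi, hj,
        QuaternionGroup.xa_mul_a, QuaternionGroup.a_mul_xa]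
      congr 1
      ring
    have h2 : t * u = u⁻¹ * t := by
      rw [eq_inv_mul_iff_mul_eq]
      exact h1
    rw [h2]; group
  have hmul : ∀ s ∈ (T : Subgroup G), ∀ t ∈ (T : Subgroup G), s ∉ C → t ∉ C → s * t ∈ C := by
    intro s hs t ht hsC htC
    obtain ⟨i, hi⟩ := hnotC s hs hsC
    obtain ⟨j, hj⟩ := hnotC t ht htC
    refine (hCiff _ ((T : Subgroup G).mul_mem hs ht)).mpr ⟨(N : ZMod (2 * N)) + j - i, ?_⟩
    rw [hmulT s t hs ht, hi, hj, QuaternionGroup.xa_mul_xa]
  have hinvol : ∀ t ∈ (T : Subgroup G), t * t = 1 → t = 1 ∨ t = z := by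
    intro t ht h1
    have h2 : e ⟨t, ht⟩ * e ⟨t, ht⟩ = 1 := by
      rw [← hmulT t t ht ht, ← he1]
      congr 2
    rcases quat_invol N _ h2 with h3 | h3
    · left
      apply hextT _ _ ht (T : Subgroup G).one_mem
      rw [h3, he1]
    · right
      apply hextT _ _ ht hzT
      rw [h3, hez]
  obtain ⟨hzQ, hQ8, hsqQ⟩ := quat_core (T : Subgroup G) C T.isPGroup' hCT z hzC hz1 hzz hsq hinv hmul hinvol
    hQT hg hodd hgQ
  exact sl23_section hzQ hz1 hzz hQ8 hsqQ hg hodd hgQ

end Cfsg.Agent.Lib.Transfer
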